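/-
Traces of finite rank endomorphisms and traces of commutators.
-/
import Mathlib.LinearAlgebra.Trace
import Mathlib.LinearAlgebra.FiniteDimensional.Basic
import Mathlib.LinearAlgebra.Projection

namespace Groth.Agent.Res

open Module (End)

variable {k : Type*} [Field k]
variable {V W U : Type*} [AddCommGroup V] [Module k V] [AddCommGroup W] [Module k W]
  [AddCommGroup U] [Module k U]

/-- The range is finite dimensional. -/
def IsFR (f : V →ₗ[k] W) : Prop := FiniteDimensional k (LinearMap.range f)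

lemma IsFR.of_range_le {f : V →ₗ[k] W} (E : Submodule k W) [FiniteDimensional k E]
    (h : LinearMap.range f ≤ E) : IsFR f :=
  Submodule.finiteDimensional_of_le h

lemma IsFR.of_finite (f : V →ₗ[k] W) [FiniteDimensional k W] : IsFR f :=
  FiniteDimensional.finiteDimensional_submodule _

lemma IsFR.of_finite_source (f : V →ₗ[k] W) [FiniteDimensional k V] : IsFR f :=
  Module.Finite.range f

lemma IsFR.zero : IsFR (0 : V →ₗ[k] W) := .of_range_le ⊥ (by simp)

lemma IsFR.add {f g : V →ₗ[k] W} (hf : IsFR f) (hg : IsFR g) : IsFR (f + g) := by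
  have : FiniteDimensional k (LinearMap.range f) := hf
  have : FiniteDimensional k (LinearMap.range g) := hg
  exact .of_range_le (LinearMap.range f ⊔ LinearMap.range g) (LinearMap.range_add_le f g)

lemma IsFR.neg {f : V →ₗ[k] W} (hf : IsFR f) : IsFR (-f) := by
  have : FiniteDimensional k (LinearMap.range f) := hf
  exact .of_range_le (LinearMap.range f) (LinearMap.range_neg f).le

lemma IsFR.sub {f g : V →ₗ[k] W} (hf : IsFR f) (hg : IsFR g) : IsFR (f - g) := by
  rw [sub_eq_add_neg]; exact hf.add hg.neg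

lemma IsFR.comp_right {f : V →ₗ[k] W} (hf : IsFR f) (g : U →ₗ[k] V) : IsFR (f ∘ₗ g) := by
  have : FiniteDimensional k (LinearMap.range f) := hf
  exact .of_range_le _ (LinearMap.range_comp_le_range g f)

lemma IsFR.comp_left {f : V →ₗ[k] W} (hf : IsFR f) (g : W →ₗ[k] U) : IsFR (g ∘ₗ f) := by
  have : FiniteDimensional k (LinearMap.range f) := hf
  exact .of_range_le _ (LinearMap.range_comp f g).le

lemma IsFR.of_comp_injective {f : V →ₗ[k] W} (g : W →ₗ[k] U) (hg : Function.Injective g)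
    (h : IsFR (g ∘ₗ f)) : IsFR f := by
  have : FiniteDimensional k (LinearMap.range (g ∘ₗ f)) := h
  have : FiniteDimensional k ((LinearMap.range f).map g) :=
    Submodule.finiteDimensional_of_le (S₂ := LinearMap.range (g ∘ₗ f)) (LinearMap.range_comp f g).ge
  exact LinearEquiv.finiteDimensional (Submodule.equivMapOfInjective g hg _).symm

lemma IsFR.sum {ι : Type*} (s : Finset ι) {f : ι → V →ₗ[k] W} (hf : ∀ i ∈ s, IsFR (f i)) :
    IsFR (∑ i ∈ s, f i) := by
  classical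
  induction s using Finset.induction_on with
  | empty => simpa using IsFR.zero
  | insert a s ha ih =>
    rw [Finset.sum_insert ha]
    exact (hf a (Finset.mem_insert_self a s)).add (ih fun i hi => hf i (Finset.mem_insert_of_mem hi))

/-- A map vanishing on `A₁` has finite rank on `A₁ ⊔ E`, `E` finite dimensional. -/
lemma IsFR.of_vanish {f : V →ₗ[k] W} (A₁ E : Submodule k V) [FiniteDimensional k E]
    (htop : A₁ ⊔ E = ⊤) (h : ∀ v ∈ A₁, f v = 0) : IsFR f := by
  refine .of_range_le (E.map f) ?_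
  rw [← Submodule.map_top, ← htop, Submodule.map_sup, show A₁.map f = ⊥ from ?_, bot_sup_eq]
  rw [eq_bot_iff]
  rintro _ ⟨v, hv, rfl⟩
  exact h v hv

/-- The trace of a finite rank endomorphism. -/
noncomputable def trFR (f : End k V) : k :=
  LinearMap.trace k (LinearMap.range f) (f.restrict fun x _ => LinearMap.mem_range_self f x)

lemma trFR_eq {f : End k V} (E : Submodule k V) [FiniteDimensional k E]
    (h : LinearMap.range f ≤ E) :
    trFR f = LinearMap.trace k E (f.restrict fun x _ => h (LinearMap.mem_range_self f x)) := by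
  have : FiniteDimensional k (LinearMap.range f) := Submodule.finiteDimensional_of_le h
  let ι : LinearMap.range f →ₗ[k] E := Submodule.inclusion h
  let r : E →ₗ[k] LinearMap.range f := f.rangeRestrict ∘ₗ E.subtype
  show LinearMap.trace k (LinearMap.range f) (r ∘ₗ ι) = _
  rw [LinearMap.trace_comp_comm']
  rfl

lemma trFR_eq_trace (f : End k V) [FiniteDimensional k V] : trFR f = LinearMap.trace k V f := by
  rw [trFR_eq ⊤ le_top, ← LinearMap.trace_conj' _ Submodule.topEquiv]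
  rfl

lemma trFR_zero : trFR (0 : End k V) = 0 := by
  rw [trFR_eq (⊥ : Submodule k V) (by simp)]
  exact (congrArg _ (LinearMap.ext fun x => Subtype.ext rfl)).trans (map_zero _)

lemma trFR_add {f g : End k V} (hf : IsFR f) (hg : IsFR g) : trFR (f + g) = trFR f + trFR g := by
  have : FiniteDimensional k (LinearMap.range f) := hf
  have : FiniteDimensional k (LinearMap.range g) := hg
  rw [trFR_eq (LinearMap.range f ⊔ LinearMap.range g) (LinearMap.range_add_le f g),
    trFR_eq (f := f) (LinearMap.range f ⊔ LinearMap.range g) le_sup_left,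
    trFR_eq (f := g) (LinearMap.range f ⊔ LinearMap.range g) le_sup_right, ← map_add]
  rfl

lemma trFR_neg {f : End k V} (hf : IsFR f) : trFR (-f) = -trFR f := by
  rw [eq_neg_iff_add_eq_zero, ← trFR_add hf.neg hf, neg_add_cancel, trFR_zero]

lemma trFR_sub {f g : End k V} (hf : IsFR f) (hg : IsFR g) : trFR (f - g) = trFR f - trFR g := by
  rw [sub_eq_add_neg, trFR_add hf hg.neg, trFR_neg hg, sub_eq_add_neg]

lemma trFR_sum {ι : Type*} (s : Finset ι) {f : ι → End k V} (hf : ∀ i ∈ s, IsFR (f i)) :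
    trFR (∑ i ∈ s, f i) = ∑ i ∈ s, trFR (f i) := by
  classical
  induction s using Finset.induction_on with
  | empty => simpa using trFR_zero
  | insert a s ha ih =>
    have h' : ∀ i ∈ s, IsFR (f i) := fun i hi => hf i (Finset.mem_insert_of_mem hi)
    rw [Finset.sum_insert ha, Finset.sum_insert ha,
      trFR_add (hf a (Finset.mem_insert_self a s)) (IsFR.sum s h'), ih h']

/-- `tr (b a) = tr (a b)` for `a` of finite rank. -/
lemma trFR_comm {a : V →ₗ[k] W} (b : W →ₗ[k] V) (ha : IsFR a) :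
    trFR (b ∘ₗ a) = trFR (a ∘ₗ b) := by
  have : FiniteDimensional k (LinearMap.range a) := ha
  set E := LinearMap.range a with hE
  have h1 : LinearMap.range (b ∘ₗ a) ≤ E.map b := (LinearMap.range_comp a b).le
  rw [trFR_eq (E.map b) h1, trFR_eq E (LinearMap.range_comp_le_range b a)]
  let a' : E.map b →ₗ[k] E := a.rangeRestrict ∘ₗ (E.map b).subtype
  let b' : E →ₗ[k] E.map b := (b ∘ₗ E.subtype).codRestrict _ fun x => ⟨x, x.2, rfl⟩
  show LinearMap.trace k _ (b' ∘ₗ a') = LinearMap.trace k _ (a' ∘ₗ b')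
  exact LinearMap.trace_comp_comm' a' b'

lemma trFR_comm' (a : V →ₗ[k] W) {b : W →ₗ[k] V} (hb : IsFR b) :
    trFR (b ∘ₗ a) = trFR (a ∘ₗ b) := (trFR_comm a hb).symm

lemma trFR_transport (i : W →ₗ[k] V) (hi : Function.Injective i) {D : End k W} {D' : End k V}
    (h : ∀ a, D' (i a) = i (D a)) (hr : ∀ v, D' v ∈ LinearMap.range i) (hfr : IsFR D') :
    trFR D' = trFR D := by
  let e := LinearEquiv.ofInjective i hi
  let c : V →ₗ[k] W := e.symm.toLinearMap ∘ₗ D'.codRestrict _ hr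
  have hic : i ∘ₗ c = D' := LinearMap.ext fun a =>
    congrArg Subtype.val (e.apply_symm_apply ⟨D' a, hr a⟩)
  have hci : c ∘ₗ i = D := LinearMap.ext fun a => hi (by
    show (i ∘ₗ c) (i a) = _
    rw [hic, h])
  have hc : IsFR c := IsFR.of_comp_injective i hi (hic.symm ▸ hfr)
  rw [← hic, trFR_comm i hc, hci]

/-- The commutator. -/
def brk (S T : End k V) : End k V := S ∘ₗ T - T ∘ₗ S

lemma brk_add_left (S D T : End k V) : brk (S + D) T = brk S T + brk D T := by
  simp only [brk, LinearMap.add_comp, LinearMap.comp_add]; abel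

lemma brk_add_right (S D T : End k V) : brk T (S + D) = brk T S + brk T D := by
  simp only [brk, LinearMap.add_comp, LinearMap.comp_add]; abel

lemma brk_neg_comm (S T : End k V) : brk S T = -brk T S := by simp [brk]

lemma isFR_brk_left {D : End k V} (hD : IsFR D) (T : End k V) : IsFR (brk D T) :=
  (hD.comp_right T).sub (hD.comp_left T)

lemma trFR_brk_left {D : End k V} (hD : IsFR D) (T : End k V) : trFR (brk D T) = 0 := by
  rw [brk, trFR_sub (hD.comp_right T) (hD.comp_left T), trFR_comm T hD, sub_self]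

lemma brk_perturb {S₁ S₂ T₁ T₂ : End k V} (hS : IsFR (brk S₁ S₂)) (h₁ : IsFR (T₁ - S₁))
    (h₂ : IsFR (T₂ - S₂)) : IsFR (brk T₁ T₂) ∧ trFR (brk T₁ T₂) = trFR (brk S₁ S₂) := by
  have e1 : brk T₁ T₂ = brk S₁ S₂ + brk (T₁ - S₁) T₂ - brk (T₂ - S₂) S₁ := by
    conv_lhs => rw [← add_sub_cancel S₁ T₁, brk_add_left]
    conv_lhs => enter [1]; rw [← add_sub_cancel S₂ T₂, brk_add_right]
    rw [brk_neg_comm S₁ (T₂ - S₂)]
    abel
  rw [e1]
  refine ⟨(hS.add (isFR_brk_left h₁ _)).sub (isFR_brk_left h₂ _), ?_⟩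
  rw [trFR_sub (hS.add (isFR_brk_left h₁ _)) (isFR_brk_left h₂ _),
    trFR_add hS (isFR_brk_left h₁ _), trFR_brk_left h₁, trFR_brk_left h₂]
  simp

/-- Transfer along maps inverse up to finite rank. -/
lemma brk_transfer {A B : Type*} [AddCommGroup A] [Module k A] [AddCommGroup B] [Module k B]
    (i : A →ₗ[k] B) (j : B →ₗ[k] A) (hji : IsFR (j ∘ₗ i - LinearMap.id))
    {S₁ S₂ : End k A} {T₁ T₂ : End k B} (hS : IsFR (brk S₁ S₂))
    (h₁ : IsFR (T₁ - i ∘ₗ S₁ ∘ₗ j)) (h₂ : IsFR (T₂ - i ∘ₗ S₂ ∘ₗ j)) :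
    IsFR (brk T₁ T₂) ∧ trFR (brk T₁ T₂) = trFR (brk S₁ S₂) := by
  set M : End k A := S₁ ∘ₗ (j ∘ₗ i) ∘ₗ S₂ - S₂ ∘ₗ (j ∘ₗ i) ∘ₗ S₁ with hM
  have eM : M = brk S₁ S₂ + S₁ ∘ₗ (j ∘ₗ i - LinearMap.id) ∘ₗ S₂ -
      S₂ ∘ₗ (j ∘ₗ i - LinearMap.id) ∘ₗ S₁ := by
    ext x; simp [hM, brk]
  have hMFR : IsFR M := eM ▸ (hS.add ((hji.comp_right _).comp_left _)).sub ((hji.comp_right _).comp_left _)
  have e : brk (i ∘ₗ S₁ ∘ₗ j) (i ∘ₗ S₂ ∘ₗ j) = (i ∘ₗ M) ∘ₗ j := by
    ext x; simp [hM, brk]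
  have hFR : IsFR (brk (i ∘ₗ S₁ ∘ₗ j) (i ∘ₗ S₂ ∘ₗ j)) := e ▸ (hMFR.comp_left i).comp_right j
  obtain ⟨hT, htr⟩ := brk_perturb hFR h₁ h₂
  refine ⟨hT, htr.trans ?_⟩
  rw [e, ← trFR_comm (a := i ∘ₗ M) j (hMFR.comp_left i)]
  -- now the trace of `j i M`
  rw [show j ∘ₗ i ∘ₗ M = brk (j ∘ₗ i ∘ₗ S₁) (j ∘ₗ i ∘ₗ S₂) by ext x; simp [hM, brk]]
  refine (brk_perturb hS ?_ ?_).2
  · have e' : j ∘ₗ i ∘ₗ S₁ - S₁ = (j ∘ₗ i - LinearMap.id) ∘ₗ S₁ := by ext x; simp
    rw [e']; exact hji.comp_right _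
  · have e' : j ∘ₗ i ∘ₗ S₂ - S₂ = (j ∘ₗ i - LinearMap.id) ∘ₗ S₂ := by ext x; simp
    rw [e']; exact hji.comp_right _

section Toeplitz

variable (A : Submodule k V) (p : V →ₗ[k] A)

/-- The compression of `m` to `A`. -/
def toep (m : End k V) : End k A := p ∘ₗ m ∘ₗ A.subtype

/-- `m A` is contained in `A` up to finite dimension. -/
def AlmostStable (m : End k V) : Prop := IsFR (A.mkQ ∘ₗ m ∘ₗ A.subtype)

variable {A p}

@[simp] lemma toep_apply (m : End k V) (a : A) : toep A p m a = p (m a) := rfl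

lemma isFR_defect (hp : ∀ a : A, p a = a) {m : End k V} (hm : AlmostStable A m) :
    IsFR ((LinearMap.id - A.subtype ∘ₗ p) ∘ₗ m ∘ₗ A.subtype) := by
  have hker : A ≤ LinearMap.ker (LinearMap.id - A.subtype ∘ₗ p) := fun a ha => by
    simp [hp ⟨a, ha⟩]
  have e : (LinearMap.id - A.subtype ∘ₗ p) ∘ₗ m ∘ₗ A.subtype =
      A.liftQ _ hker ∘ₗ (A.mkQ ∘ₗ m ∘ₗ A.subtype) := by
    ext a; simp
  rw [e]; exact hm.comp_left _

lemma isFR_toep_mul (hp : ∀ a : A, p a = a) (m : End k V) {n : End k V} (hn : AlmostStable A n) :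
    IsFR (toep A p m ∘ₗ toep A p n - toep A p (m ∘ₗ n)) := by
  have e : toep A p m ∘ₗ toep A p n - toep A p (m ∘ₗ n) =
      -((p ∘ₗ m) ∘ₗ ((LinearMap.id - A.subtype ∘ₗ p) ∘ₗ n ∘ₗ A.subtype)) := by
    ext a; simp
  rw [e]; exact ((isFR_defect hp hn).comp_left _).neg

lemma isFR_brk_toep (hp : ∀ a : A, p a = a) {m n : End k V} (hmn : m ∘ₗ n = n ∘ₗ m)
    (hm : AlmostStable A m) (hn : AlmostStable A n) : IsFR (brk (toep A p m) (toep A p n)) := by
  have e : brk (toep A p m) (toep A p n) = (toep A p m ∘ₗ toep A p n - toep A p (m ∘ₗ n)) -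
      (toep A p n ∘ₗ toep A p m - toep A p (n ∘ₗ m)) := by
    rw [brk, hmn]; abel
  rw [e]; exact (isFR_toep_mul hp m hn).sub (isFR_toep_mul hp n hm)

lemma trFR_brk_toep_congr (hp : ∀ a : A, p a = a) {p' : V →ₗ[k] A} (hp' : ∀ a : A, p' a = a)
    {m n : End k V} (hmn : m ∘ₗ n = n ∘ₗ m) (hm : AlmostStable A m) (hn : AlmostStable A n) :
    trFR (brk (toep A p' m) (toep A p' n)) = trFR (brk (toep A p m) (toep A p n)) := by
  have hd : ∀ {m : End k V}, AlmostStable A m → IsFR (toep A p' m - toep A p m) := by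
    intro m hm
    have hker : A ≤ LinearMap.ker (p' - p) := fun a ha => by simp [hp ⟨a, ha⟩, hp' ⟨a, ha⟩]
    have e : toep A p' m - toep A p m = A.liftQ _ hker ∘ₗ (A.mkQ ∘ₗ m ∘ₗ A.subtype) := by
      ext a; simp
    rw [e]; exact hm.comp_left _
  exact (brk_perturb (isFR_brk_toep hp hmn hm hn) (hd hm) (hd hn)).2

lemma brk_toep_eq_zero (hp : ∀ a : A, p a = a) {m n : End k V} (hmn : m ∘ₗ n = n ∘ₗ m)
    (hm : ∀ a ∈ A, m a ∈ A) (hn : ∀ a ∈ A, n a ∈ A) : brk (toep A p m) (toep A p n) = 0 := by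
  ext a
  have h1 : (p (m a) : V) = m a := congrArg Subtype.val (hp ⟨_, hm _ a.2⟩)
  have h2 : (p (n a) : V) = n a := congrArg Subtype.val (hp ⟨_, hn _ a.2⟩)
  simp only [brk, LinearMap.sub_apply, LinearMap.comp_apply, toep_apply, h1, h2, LinearMap.zero_apply]
  rw [show m (n a) = n (m a) from LinearMap.congr_fun hmn a, sub_self]

/-- If a complement of `A`, up to finite dimension, is stable under `m` and `n`, the trace of the
commutator vanishes. -/
theorem trFR_brk_toep_eq_zero (hp : ∀ a : A, p a = a) (C : Submodule k V)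
    [FiniteDimensional k (A ⊓ C : Submodule k V)] [FiniteDimensional k (V ⧸ (A ⊔ C))]
    {m n : End k V} (hmn : m ∘ₗ n = n ∘ₗ m) (hm : AlmostStable A m) (hn : AlmostStable A n)
    (hmC : ∀ c ∈ C, m c ∈ C) (hnC : ∀ c ∈ C, n c ∈ C) :
    trFR (brk (toep A p m) (toep A p n)) = 0 := by
  obtain ⟨W, hW⟩ := (A ⊔ C).exists_isCompl
  -- a complement of the intersection inside `A`
  obtain ⟨X, hX⟩ := ((A ⊓ C).comap A.subtype).exists_isCompl
  let A₁ : Submodule k V := X.map A.subtype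
  let A₀ : Submodule k V := A₁ ⊔ W
  have : FiniteDimensional k W :=
    LinearEquiv.finiteDimensional (Submodule.quotientEquivOfIsCompl _ _ hW)
  have hA₁ : A₁ ≤ A := Submodule.map_subtype_le _ _
  have hsplit : ∀ a ∈ A, ∃ a₁ ∈ A₁, ∃ e ∈ A ⊓ C, a₁ + e = a := fun a ha => by
    obtain ⟨y, hy, z, hz, hyz⟩ := Submodule.mem_sup.1 (hX.sup_eq_top ▸ (Submodule.mem_top : (⟨a, ha⟩ : A) ∈ ⊤))
    exact ⟨z, ⟨z, hz, rfl⟩, y, hy, by rw [add_comm]; exact congrArg Subtype.val hyz⟩
  have hcompl : IsCompl A₀ C := by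
    constructor
    · rw [Submodule.disjoint_def]
      intro x hx hxC
      obtain ⟨a, ha, w, hw, rfl⟩ := Submodule.mem_sup.1 hx
      have hwAC : w ∈ A ⊔ C := by
        rw [show w = (a + w) - a by abel]
        exact sub_mem (Submodule.mem_sup_right hxC) (Submodule.mem_sup_left (hA₁ ha))
      have hw0 : w = 0 := Submodule.disjoint_def.1 hW.disjoint w hwAC hw
      subst hw0
      rw [add_zero] at hxC ⊢
      obtain ⟨y, hy, rfl⟩ := ha
      have : y = 0 := Submodule.disjoint_def.1 hX.disjoint y ⟨y.2, hxC⟩ hy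
      rw [this]; rfl
    · rw [codisjoint_iff, eq_top_iff, ← hW.sup_eq_top]
      refine sup_le (sup_le (fun a ha => ?_) le_sup_right) (le_sup_right.trans le_sup_left)
      obtain ⟨a₁, ha₁, e, he, rfl⟩ := hsplit a ha
      exact add_mem (Submodule.mem_sup_left (Submodule.mem_sup_left ha₁)) (Submodule.mem_sup_right he.2)
  let q : V →ₗ[k] A₀ := A₀.projectionOnto C hcompl
  have hq : ∀ a : A₀, q a = a := fun a => Submodule.projectionOnto_apply_left hcompl a
  have hqC : ∀ c ∈ C, q c = 0 := fun c hc => Submodule.projectionOnto_apply_of_mem_right hcompl hc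
  have hqm : ∀ {m : End k V}, (∀ c ∈ C, m c ∈ C) → ∀ v, q (m (q v)) = q (m v) := fun {m} hmC v => by
    have h1 : v - q v ∈ C := by
      refine (Submodule.projectionOnto_apply_eq_zero_iff hcompl).1 ?_
      show q (v - q v) = 0
      rw [map_sub, hq, sub_self]
    have h2 := hqC _ (hmC _ h1)
    rw [map_sub, map_sub, sub_eq_zero] at h2
    exact h2.symm
  have hzero : brk (toep A₀ q m) (toep A₀ q n) = 0 := by
    ext a
    simp only [brk, LinearMap.sub_apply, LinearMap.comp_apply, toep_apply, LinearMap.zero_apply,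
      hqm hmC, hqm hnC]
    rw [show m (n a) = n (m a) from LinearMap.congr_fun hmn a, sub_self]
  let i : A →ₗ[k] A₀ := q ∘ₗ A.subtype
  let j : A₀ →ₗ[k] A := p ∘ₗ A₀.subtype
  have hji : IsFR (j ∘ₗ i - LinearMap.id) := by
    have : FiniteDimensional k ((A ⊓ C).comap A.subtype) :=
      LinearEquiv.finiteDimensional (Submodule.comapSubtypeEquivOfLe inf_le_left).symm
    refine .of_vanish X ((A ⊓ C).comap A.subtype) (by rw [sup_comm]; exact hX.sup_eq_top) fun x hx => ?_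
    have h1 : (x : V) ∈ A₀ := Submodule.mem_sup_left ⟨x, hx, rfl⟩
    simp only [LinearMap.sub_apply, LinearMap.comp_apply, LinearMap.id_apply, i, j,
      Submodule.subtype_apply, congrArg Subtype.val (hq ⟨x, h1⟩), hp, sub_self]
  have hT : ∀ {m : End k V}, AlmostStable A m → IsFR (toep A₀ q m - i ∘ₗ toep A p m ∘ₗ j) := by
    intro m hm
    have : FiniteDimensional k (W.comap A₀.subtype) :=
      LinearEquiv.finiteDimensional (Submodule.comapSubtypeEquivOfLe (le_sup_right : W ≤ A₀)).symm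
    set Δ := toep A₀ q m - i ∘ₗ toep A p m ∘ₗ j
    have : FiniteDimensional k (LinearMap.range (q ∘ₗ (LinearMap.id - A.subtype ∘ₗ p) ∘ₗ m ∘ₗ A.subtype)) :=
      (isFR_defect hp hm).comp_left q
    refine .of_range_le ((W.comap A₀.subtype).map Δ ⊔
      LinearMap.range (q ∘ₗ (LinearMap.id - A.subtype ∘ₗ p) ∘ₗ m ∘ₗ A.subtype)) ?_
    rintro _ ⟨⟨x, hx⟩, rfl⟩
    obtain ⟨a, ha, w, hw, rfl⟩ := Submodule.mem_sup.1 hx
    have e : (⟨a + w, hx⟩ : A₀) = ⟨a, Submodule.mem_sup_left ha⟩ + ⟨w, Submodule.mem_sup_right hw⟩ := rfl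
    rw [e, map_add]
    refine add_mem (Submodule.mem_sup_right ⟨⟨a, hA₁ ha⟩, ?_⟩)
      (Submodule.mem_sup_left ⟨⟨w, Submodule.mem_sup_right hw⟩, hw, rfl⟩)
    have h2 : p a = ⟨a, hA₁ ha⟩ := hp ⟨a, hA₁ ha⟩
    simp [Δ, i, j, h2]
  exact ((brk_transfer i j hji (isFR_brk_toep hp hmn hm hn) (hT hm) (hT hn)).2.symm.trans
    (by rw [hzero, trFR_zero]))

end Toeplitz

end Groth.Agent.Res
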