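/-
The residue at a place as the trace of a commutator.
-/
import Groth.Agent.L26.Res.TraceFR
import Groth.Agent.L26.FF.Basic
import Groth.Prelude.Def_LocRes

open WithZero
open scoped LaurentSeries

namespace Groth.Agent.Res

open Module (End)
open FunFld

variable {k K : Type*} [Field k] [Field K] [Algebra k K]

/-- The valuation ring as a subspace. -/
def oSub (P : Place k K) : Submodule k K where
  carrier := {z | P.1 z ≤ 1}
  add_mem' {x y} hx hy := P.1.map_add_le hx hy
  zero_mem' := by simp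
  smul_mem' c x hx := by
    show P.1 (c • x) ≤ 1
    rw [Algebra.smul_def, map_mul]
    exact Left.mul_le_one (P.2.1 c) hx

lemma mem_oSub {P : Place k K} {z : K} : z ∈ oSub P ↔ P.1 z ≤ 1 := Iff.rfl

lemma exists_projO (P : Place k K) : ∃ p : K →ₗ[k] oSub P, ∀ a : oSub P, p a = a := by
  obtain ⟨B, hB⟩ := (oSub P).exists_isCompl
  exact ⟨(oSub P).projectionOnto B hB, fun a => Submodule.projectionOnto_apply_left hB a⟩

/-- A projection onto the valuation ring. -/
noncomputable def projO (P : Place k K) : K →ₗ[k] oSub P := (exists_projO P).choose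

lemma projO_apply (P : Place k K) (a : oSub P) : projO P a = a := (exists_projO P).choose_spec a

/-- Multiplication. -/
abbrev mulL (k : Type*) [Field k] {R : Type*} [CommRing R] [Algebra k R] (f : R) : End k R :=
  LinearMap.mulLeft k f

lemma mulL_comm {R : Type*} [CommRing R] [Algebra k R] (f g : R) :
    mulL k f ∘ₗ mulL k g = mulL k g ∘ₗ mulL k f := by
  ext x; simp [mul_left_comm]

/-- The residue of `f dg` as a trace. -/
noncomputable def tateRes (P : Place k K) (f g : K) : k :=
  trFR (brk (toep (oSub P) (projO P) (mulL k f)) (toep (oSub P) (projO P) (mulL k g)))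

lemma tateRes_eq_zero {P : Place k K} {f g : K} (hf : P.1 f ≤ 1) (hg : P.1 g ≤ 1) :
    tateRes P f g = 0 := by
  have h : ∀ {f : K}, P.1 f ≤ 1 → ∀ a ∈ oSub P, mulL k f a ∈ oSub P := fun {f} hf a ha => by
    show P.1 (f * a) ≤ 1
    rw [map_mul]
    exact Left.mul_le_one hf ha
  rw [tateRes, brk_toep_eq_zero (projO_apply P) (mulL_comm f g) (h hf) (h hg), trFR_zero]

section Laurent

variable {F : Type*} [Field F] [Algebra k F]

/-- Scalars act on series through the algebra structure. -/
noncomputable local instance (priority := high) lauModule : Module k F⸨X⸩ := Algebra.toModule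

/-- Scalars act on series through the algebra structure. -/
noncomputable local instance (priority := high) lauSMul : SMul k F⸨X⸩ := Algebra.toSMul

lemma coeff_smul' (c : k) (x : F⸨X⸩) (i : ℤ) : (c • x).coeff i = c • x.coeff i := by
  rw [Algebra.smul_def, HahnSeries.algebraMap_apply', PowerSeries.algebraMap_apply,
    HahnSeries.ofPowerSeries_C, HahnSeries.C_mul_eq_smul, HahnSeries.coeff_smul, algebraMap_smul]

variable (k F) in
/-- Series of order at least `M`. -/
def lau (M : ℤ) : Submodule k F⸨X⸩ where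
  carrier := {v | ∀ i < M, v.coeff i = 0}
  add_mem' {x y} hx hy i hi := by rw [HahnSeries.coeff_add, hx i hi, hy i hi, add_zero]
  zero_mem' i _ := rfl
  smul_mem' c x hx i hi := by rw [coeff_smul', hx i hi, smul_zero]

lemma lau_mono {a b : ℤ} (h : a ≤ b) : lau k F b ≤ lau k F a := fun _ hv i hi => hv i (by omega)

lemma mem_lau_iff {M : ℤ} {v : F⸨X⸩} : v ∈ lau k F M ↔ Valued.v v ≤ exp (-M) :=
  (LaurentSeries.valuation_le_iff_coeff_lt_eq_zero F).symm

lemma mul_mem_lau {a b : ℤ} {u v : F⸨X⸩} (hu : u ∈ lau k F a) (hv : v ∈ lau k F b) :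
    u * v ∈ lau k F (a + b) := by
  rw [mem_lau_iff] at *
  rw [map_mul, neg_add, exp_add]
  exact mul_le_mul' hu hv

lemma exists_lau (v : F⸨X⸩) : ∃ N : ℕ, v ∈ lau k F (-(N : ℤ)) := by
  refine ⟨(-v.order).toNat, fun i hi => ?_⟩
  exact HahnSeries.coeff_eq_zero_of_lt_order (by omega)

/-- Truncation. -/
noncomputable def trunc0 : F⸨X⸩ →ₗ[k] lau k F 0 where
  toFun v := ⟨⟨fun i => if i < 0 then 0 else v.coeff i,
      v.isPWO_support.mono fun i hi => by
        simp only [Function.mem_support, ne_eq] at hi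
        intro h
        simp [h] at hi⟩,
    fun i hi => if_pos hi⟩
  map_add' x y := Subtype.ext (HahnSeries.ext (funext fun i => by
    by_cases h : i < 0 <;> simp [h]))
  map_smul' c x := Subtype.ext (HahnSeries.ext (funext fun i => by
    by_cases h : i < 0 <;> simp [h, coeff_smul']))

lemma trunc0_coeff (v : F⸨X⸩) (i : ℤ) :
    ((trunc0 (k := k) v : lau k F 0) : F⸨X⸩).coeff i = if i < 0 then 0 else v.coeff i := rfl

lemma trunc0_apply (a : lau k F 0) : trunc0 (k := k) (a : F⸨X⸩) = a := by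
  refine Subtype.ext (HahnSeries.ext (funext fun i => ?_))
  rw [trunc0_coeff]
  split_ifs with h
  · exact (a.2 i h).symm
  · rfl

lemma trunc0_const_mul (x : F) (v : F⸨X⸩) :
    ((trunc0 (k := k) (HahnSeries.C x * v) : lau k F 0) : F⸨X⸩) =
      HahnSeries.C x * (trunc0 (k := k) v : F⸨X⸩) := by
  refine HahnSeries.ext (funext fun i => ?_)
  rw [trunc0_coeff, HahnSeries.C_mul_eq_smul, HahnSeries.C_mul_eq_smul]
  split_ifs with h <;> simp [trunc0_coeff, h]

/-- The principal part, as a finite sum. -/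
lemma trunc0_eq_sub {N : ℕ} {v : F⸨X⸩} (hv : v ∈ lau k F (-(N : ℤ))) :
    (trunc0 (k := k) v : F⸨X⸩) =
      v - ∑ l ∈ Finset.range N, HahnSeries.single (-((l : ℤ) + 1)) (v.coeff (-((l : ℤ) + 1))) := by
  classical
  refine HahnSeries.ext (funext fun i => ?_)
  rw [trunc0_coeff, HahnSeries.coeff_sub, HahnSeries.coeff_sum]
  simp only [HahnSeries.coeff_single]
  rcases le_or_gt 0 i with h | h
  · rw [if_neg (by omega), Finset.sum_eq_zero, sub_zero]
    intro l _
    rw [if_neg (by omega)]
  · rw [if_pos h]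
    by_cases h' : i < -(N : ℤ)
    · rw [Finset.sum_eq_zero, sub_zero, hv i h']
      intro l hl
      rw [Finset.mem_range] at hl
      rw [if_neg (by omega)]
    · rw [Finset.sum_eq_single (-(i + 1)).toNat]
      · rw [show -(((-(i + 1)).toNat : ℤ) + 1) = i by omega, if_pos rfl, sub_self]
      · intro l _ hl
        rw [if_neg (by omega)]
      · intro h2
        rw [Finset.mem_range] at h2
        omega

variable [FiniteDimensional k F]

lemma almostStable_lau (f : F⸨X⸩) : AlmostStable (lau k F 0) (mulL k f) := by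
  obtain ⟨N, hN⟩ := exists_lau (k := k) f
  let s : (Fin N → F) →ₗ[k] F⸨X⸩ :=
    ∑ l : Fin N, ({ toFun := fun x => HahnSeries.single (-((l : ℤ) + 1)) x
                    map_add' := fun x y => HahnSeries.single_add _ x y
                    map_smul' := fun c x => by
                      refine HahnSeries.ext (funext fun i => ?_)
                      rcases eq_or_ne i (-((l : ℤ) + 1)) with rfl | h
                      · simp [coeff_smul']
                      · simp only [coeff_smul', HahnSeries.coeff_single_of_ne h, smul_zero, RingHom.id_apply] } :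
                  F →ₗ[k] F⸨X⸩) ∘ₗ LinearMap.proj l
  have : FiniteDimensional k (LinearMap.range ((lau k F 0).mkQ ∘ₗ s)) := Module.Finite.range _
  refine .of_range_le (LinearMap.range ((lau k F 0).mkQ ∘ₗ s)) ?_
  rintro _ ⟨⟨a, ha⟩, rfl⟩
  have hfa : f * a ∈ lau k F (-(N : ℤ)) := by simpa using mul_mem_lau hN ha
  refine ⟨fun l => (f * a).coeff (-((l : ℤ) + 1)), ((Submodule.Quotient.eq _).2 ?_).symm⟩
  have h := trunc0_eq_sub hfa
  simp only [LinearMap.comp_apply, LinearMap.mulLeft_apply, Submodule.subtype_apply, s,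
    LinearMap.sum_apply, LinearMap.proj_apply, LinearMap.coe_mk, AddHom.coe_mk]
  rw [Fin.sum_univ_eq_sum_range (fun l => HahnSeries.single (-((l : ℤ) + 1)) ((f * a).coeff (-((l : ℤ) + 1)))), ← h]
  exact Subtype.property _

omit [FiniteDimensional k F] in
lemma brk_vanish {p : F⸨X⸩ →ₗ[k] lau k F 0} (hp : ∀ a : lau k F 0, p a = a) {f g : F⸨X⸩} {N : ℕ}
    (hf : f ∈ lau k F (-(N : ℤ))) (hg : g ∈ lau k F (-(N : ℤ))) (a : lau k F 0)
    (ha : (a : F⸨X⸩) ∈ lau k F (2 * N : ℕ)) :
    brk (toep _ p (mulL k f)) (toep _ p (mulL k g)) a = 0 := by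
  have h1 : ∀ {h : F⸨X⸩}, h ∈ lau k F (-(N : ℤ)) → h * (a : F⸨X⸩) ∈ lau k F (N : ℤ) := fun hh => by
    have := mul_mem_lau hh ha
    convert this using 2
    push_cast; ring
  have h2 : ∀ {u h : F⸨X⸩}, u ∈ lau k F (-(N : ℤ)) → h ∈ lau k F (-(N : ℤ)) → u * (h * a) ∈ lau k F 0 :=
    fun hu hh => by simpa using mul_mem_lau hu (h1 hh)
  have h0 : ∀ {h : F⸨X⸩} (hh : h ∈ lau k F (-(N : ℤ))), toep _ p (mulL k h) a = ⟨h * a, lau_mono (by omega) (h1 hh)⟩ :=
    fun hh => hp ⟨_, lau_mono (by omega) (h1 hh)⟩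
  simp only [brk, LinearMap.sub_apply, LinearMap.comp_apply, h0 hf, h0 hg]
  simp only [toep_apply, LinearMap.mulLeft_apply, mul_left_comm f g, sub_self]

variable (k) in
/-- The sum computing the residue. -/
lemma resExp_eq_sum {f g : F⸨X⸩} {N : ℕ} (hf : f ∈ lau k F (-(N : ℤ)))
    (hg : g ∈ lau k F (-(N : ℤ))) :
    LocRes.res F (f * LocRes.D F g) = ∑ j ∈ Finset.range N, ((j : F) + 1) *
      (g.coeff ((j : ℤ) + 1) * f.coeff (-((j : ℤ) + 1)) - f.coeff ((j : ℤ) + 1) * g.coeff (-((j : ℤ) + 1))) := by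
  have hD : LocRes.D F g ∈ lau k F (-((N + 1 : ℕ) : ℤ)) := fun i hi => by
    rw [LocRes.D_coeff, hg (i + 1) (by omega), smul_zero]
  have hDc : ∀ i : ℤ, (LocRes.D F g).coeff i = ((i : F) + 1) * g.coeff (i + 1) := fun i => by
    rw [LocRes.D_coeff, zsmul_eq_mul]; push_cast; rfl
  have ef := trunc0_eq_sub hf
  have eg := trunc0_eq_sub hD
  set fp : F⸨X⸩ := (trunc0 (k := k) f : F⸨X⸩) with hfp
  set gp : F⸨X⸩ := (trunc0 (k := k) (LocRes.D F g) : F⸨X⸩)
  set fn := ∑ l ∈ Finset.range N, HahnSeries.single (-((l : ℤ) + 1)) (f.coeff (-((l : ℤ) + 1)))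
  set gn := ∑ l ∈ Finset.range (N + 1), HahnSeries.single (-((l : ℤ) + 1))
    ((LocRes.D F g).coeff (-((l : ℤ) + 1)))
  have e : f * LocRes.D F g = fp * gp + fn * LocRes.D F g + fp * gn := by rw [ef, eg]; ring
  have h0 : (fp * gp).coeff (-1) = 0 :=
    mul_mem_lau (Subtype.property (trunc0 (k := k) f)) (Subtype.property (trunc0 (k := k) (LocRes.D F g))) _ (by norm_num)
  rw [LocRes.res_apply, e, HahnSeries.coeff_add, HahnSeries.coeff_add, h0, zero_add]
  simp only [fn, gn, Finset.sum_mul, Finset.mul_sum, HahnSeries.coeff_sum, HahnSeries.coeff_single_mul,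
    HahnSeries.coeff_mul_single]
  rw [Finset.sum_range_succ' (fun l => fp.coeff (-1 - -((l : ℤ) + 1)) * _), ← add_assoc, hDc]
  simp only [Nat.cast_zero, zero_add, Int.cast_neg, Int.cast_one, neg_add_cancel, zero_mul, mul_zero,
    add_zero, ← Finset.sum_add_distrib]
  refine Finset.sum_congr rfl fun l _ => ?_
  rw [hDc, hDc, hfp, trunc0_coeff, if_neg (by omega)]
  push_cast
  ring_nf

lemma tate_lau {f g : F⸨X⸩} :
    trFR (brk (toep (lau k F 0) (trunc0 (k := k)) (mulL k f)) (toep (lau k F 0) (trunc0 (k := k)) (mulL k g))) =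
      Algebra.trace k F (LocRes.res F (f * LocRes.D F g)) := by
  classical
  obtain ⟨N₁, h₁⟩ := exists_lau (k := k) f
  obtain ⟨N₂, h₂⟩ := exists_lau (k := k) g
  set N := N₁ + N₂
  have hf : f ∈ lau k F (-(N : ℤ)) := lau_mono (by omega) h₁
  have hg : g ∈ lau k F (-(N : ℤ)) := lau_mono (by omega) h₂
  set D := brk (toep (lau k F 0) (trunc0 (k := k)) (mulL k f)) (toep (lau k F 0) (trunc0 (k := k)) (mulL k g)) with hD
  set M := 2 * N
  let inj : Fin M → F →ₗ[k] lau k F 0 := fun i =>
    { toFun := fun x => ⟨HahnSeries.single (i : ℤ) x, fun l hl => HahnSeries.coeff_single_of_ne (by omega)⟩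
      map_add' := fun x y => Subtype.ext (HahnSeries.single_add _ x y)
      map_smul' := fun c x => Subtype.ext (HahnSeries.ext (funext fun l => by
        rcases eq_or_ne l (i : ℤ) with rfl | h <;> simp [coeff_smul', *])) }
  let s : (Fin M → F) →ₗ[k] lau k F 0 := ∑ i, inj i ∘ₗ LinearMap.proj i
  let c : lau k F 0 →ₗ[k] (Fin M → F) :=
    { toFun := fun a i => (a : F⸨X⸩).coeff (i : ℤ)
      map_add' := fun x y => rfl
      map_smul' := fun b x => by ext i; simp [coeff_smul'] }
  have hfac : D = (D ∘ₗ s) ∘ₗ c := by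
    refine LinearMap.ext fun a => ?_
    rw [← sub_eq_zero]
    show D a - D (s (c a)) = 0
    rw [← map_sub]
    refine brk_vanish trunc0_apply hf hg _ fun l hl => ?_
    have e : (s (c a) : F⸨X⸩).coeff l = ∑ i : Fin M, if l = (i : ℤ) then (a : F⸨X⸩).coeff (i : ℤ) else 0 := by
      simp only [s, inj, c, LinearMap.sum_apply, LinearMap.comp_apply, LinearMap.proj_apply,
        LinearMap.coe_mk, AddHom.coe_mk, AddSubmonoidClass.coe_finsetSum, HahnSeries.coeff_sum,
        HahnSeries.coeff_single]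
      exact Finset.sum_congr rfl fun x _ => by split_ifs <;> rfl
    rw [AddSubgroupClass.coe_sub, HahnSeries.coeff_sub, e, sub_eq_zero]
    rcases lt_or_ge l 0 with h | h
    · rw [a.2 l h, Finset.sum_eq_zero fun i _ => if_neg (by omega)]
    · rw [Finset.sum_eq_single (⟨l.toNat, by omega⟩ : Fin M)]
      · rw [show ((⟨l.toNat, _⟩ : Fin M) : ℤ) = l from Int.toNat_of_nonneg h, if_pos rfl]
      · intro i _ hi
        refine if_neg fun h2 => hi (Fin.ext ?_)
        show (i : ℕ) = l.toNat
        omega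
      · simp
  -- the operators commute with constants
  have hlin : ∀ (h : F⸨X⸩) (x : F) (a b : lau k F 0), (b : F⸨X⸩) = HahnSeries.C x * (a : F⸨X⸩) →
      ((toep (lau k F 0) (trunc0 (k := k)) (mulL k h) b : lau k F 0) : F⸨X⸩) =
        HahnSeries.C x * ((toep (lau k F 0) (trunc0 (k := k)) (mulL k h) a : lau k F 0) : F⸨X⸩) := by
    intro h x a b hab
    simp only [toep_apply, LinearMap.mulLeft_apply, hab, mul_left_comm h, trunc0_const_mul]
  let one : Fin M → lau k F 0 := fun j => inj j 1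
  let A : Fin M → Fin M → F := fun i j => (D (one j) : F⸨X⸩).coeff (i : ℤ)
  have hT : c ∘ₗ (D ∘ₗ s) = ∑ i, ∑ j, (LinearMap.single k (fun _ : Fin M => F) i ∘ₗ Algebra.lmul k F (A i j)) ∘ₗ LinearMap.proj j := by
    refine LinearMap.ext fun v => funext fun i => ?_
    have hDx : ∀ (j : Fin M) (x : F), (D (inj j x) : F⸨X⸩) = HahnSeries.C x * (D (one j) : F⸨X⸩) := by
      intro j x
      have hx : (inj j x : F⸨X⸩) = HahnSeries.C x * (one j : F⸨X⸩) := by
        simp [inj, one]
      simp only [hD, brk, LinearMap.sub_apply, LinearMap.comp_apply, AddSubgroupClass.coe_sub, mul_sub,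
        hlin _ x _ _ (hlin _ x _ _ hx)]
    have e1 : (c ∘ₗ (D ∘ₗ s)) v i = ∑ j, A i j * v j := by
      simp only [LinearMap.comp_apply, s, LinearMap.sum_apply, LinearMap.proj_apply, map_sum, c,
        LinearMap.coe_mk, AddHom.coe_mk, AddSubmonoidClass.coe_finsetSum, HahnSeries.coeff_sum, Finset.sum_apply]
      refine Finset.sum_congr rfl fun j _ => ?_
      rw [hDx, HahnSeries.C_mul_eq_smul, HahnSeries.coeff_smul, smul_eq_mul, mul_comm]
    rw [e1]
    simp [LinearMap.sum_apply, Finset.sum_apply, Pi.single_apply]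
  rw [show trFR D = trFR (c ∘ₗ (D ∘ₗ s)) from
    (congrArg trFR hfac).trans (trFR_comm c (IsFR.of_finite_source (D ∘ₗ s))).symm]
  rw [trFR_eq_trace, hT, map_sum]
  simp only [map_sum]
  rw [Finset.sum_congr rfl fun i _ => Finset.sum_eq_single i (fun j _ hj => ?_) (by simp)]
  rotate_left
  · rw [← LinearMap.trace_comp_comm',
      show LinearMap.proj j ∘ₗ LinearMap.single k (fun _ : Fin M => F) i ∘ₗ Algebra.lmul k F (A i j) = 0 from
        LinearMap.ext fun x => by simp [Pi.single_eq_of_ne hj], map_zero]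
  have hdiag : ∀ i : Fin M, LinearMap.trace k (Fin M → F)
      ((LinearMap.single k (fun _ : Fin M => F) i ∘ₗ Algebra.lmul k F (A i i)) ∘ₗ LinearMap.proj i) =
      Algebra.trace k F (A i i) := fun i => by
    rw [← LinearMap.trace_comp_comm', Algebra.trace_apply]
    congr 1
    exact LinearMap.ext fun x => by simp
  simp only [hdiag, ← map_sum]
  congr 1
  -- the diagonal
  rw [resExp_eq_sum k hf hg]
  let G : ℕ → F := fun j =>
    g.coeff ((j : ℤ) + 1) * f.coeff (-((j : ℤ) + 1)) - f.coeff ((j : ℤ) + 1) * g.coeff (-((j : ℤ) + 1))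
  have hG : ∀ j, N ≤ j → G j = 0 := fun j hj => by
    simp only [G, hf (-((j : ℤ) + 1)) (by omega), hg (-((j : ℤ) + 1)) (by omega), mul_zero, sub_zero]
  have hA : ∀ i : Fin M, A i i = ∑ l ∈ Finset.range N, G ((i : ℕ) + l) := by
    intro i
    have h1 : ∀ {h : F⸨X⸩}, h ∈ lau k F (-(N : ℤ)) → h * HahnSeries.single (i : ℤ) (1 : F) ∈ lau k F (-(N : ℤ)) := by
      intro h hh l hl
      rw [HahnSeries.coeff_mul_single, hh _ (by omega), zero_mul]
    simp only [A, hD, brk, LinearMap.sub_apply, LinearMap.comp_apply, AddSubgroupClass.coe_sub,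
      HahnSeries.coeff_sub, toep_apply, LinearMap.mulLeft_apply, one, inj, LinearMap.coe_mk,
      AddHom.coe_mk, trunc0_coeff, if_neg (show ¬ ((i : ℕ) : ℤ) < 0 by omega),
      trunc0_eq_sub (h1 hf), trunc0_eq_sub (h1 hg), mul_sub, mul_left_comm g f,
      Finset.mul_sum, HahnSeries.coeff_sum, HahnSeries.coeff_mul_single]
    rw [sub_sub_sub_cancel_left, ← Finset.sum_sub_distrib]
    refine Finset.sum_congr rfl fun l _ => ?_
    simp only [G, mul_one]
    push_cast
    ring_nf
  simp only [hA]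
  rw [Fin.sum_univ_eq_sum_range (fun i => ∑ l ∈ Finset.range N, G (i + l))]
  have key : ∀ m, N ≤ m → ∑ i ∈ Finset.range m, ∑ l ∈ Finset.range N, G (i + l) =
      ∑ j ∈ Finset.range N, ((j : F) + 1) * G j := by
    intro m hm
    have hin : ∀ i, ∑ l ∈ Finset.range N, G (i + l) = ∑ j ∈ Finset.range N with i ≤ j, G j := by
      intro i
      rw [← Finset.sum_filter_add_sum_filter_not (Finset.range N) (fun l => i + l < N),
        Finset.sum_eq_zero (s := (Finset.range N).filter fun l => ¬ i + l < N)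
          (fun l hl => hG _ (by simp at hl; omega)), add_zero]
      refine Finset.sum_bij' (fun l _ => i + l) (fun j _ => j - i) ?_ ?_ ?_ ?_ ?_ <;>
        intro a ha <;> simp at ha ⊢ <;> omega
    simp only [hin, Finset.sum_filter]
    rw [Finset.sum_comm]
    refine Finset.sum_congr rfl fun j hj => ?_
    rw [Finset.mem_range] at hj
    rw [← Finset.sum_filter, Finset.sum_const, nsmul_eq_mul,
      show ((Finset.range m).filter fun i => i ≤ j) = Finset.range (j + 1) by ext; simp; omega,
      Finset.card_range, Nat.cast_succ]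
  exact key M (by omega)

lemma exists_near_series {P : Place k K} {φ : K →ₐ[k] F⸨X⸩} (hφ : LocRes.IsExpansionAt P.1 φ)
    (v : F⸨X⸩) (M : ℤ) : ∃ z : K, φ z - v ∈ lau k F M := by
  obtain ⟨hv, hres, t, ht⟩ := hφ
  have hmem : ∀ z : K, φ z ∈ lau k F 0 ↔ P.1 z ≤ 1 := fun z => by
    rw [mem_lau_iff, hv, neg_zero, exp_zero]
  obtain ⟨N, hN⟩ := exists_lau (k := k) v
  have hvt : ∀ j : ℤ, Valued.v (φ (t ^ j)) = exp (-j) := fun j => by
    rw [hv, map_zpow₀, ht, ← exp_zsmul, smul_eq_mul, mul_neg, mul_one]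
  have step : ∀ d : ℕ, ∃ z : K, φ z - v ∈ lau k F (-(N : ℤ) + d) := by
    intro d
    induction d with
    | zero => exact ⟨0, by rw [map_zero, zero_sub]; simpa using neg_mem hN⟩
    | succ d ih =>
      obtain ⟨z, hz⟩ := ih
      set j : ℤ := -(N : ℤ) + d
      set w := φ z - v
      set T := φ (t ^ j)
      have hT : T ∈ lau k F j := mem_lau_iff.2 (hvt j).le
      have hc : T.coeff j ≠ 0 := fun h0 => by
        have h1 : T ∈ lau k F (j + 1) := fun i hi => by
          rcases eq_or_lt_of_le (show i ≤ j by omega) with rfl | h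
          · exact h0
          · exact hT i h
        rw [mem_lau_iff, hvt, exp_le_exp] at h1
        omega
      obtain ⟨y, hy, hy0⟩ := hres (w.coeff j / T.coeff j)
      refine ⟨z - y * t ^ j, fun i hi => ?_⟩
      rw [map_sub, map_mul, sub_right_comm, HahnSeries.coeff_sub]
      have hY : φ y ∈ lau k F 0 := (hmem y).2 hy
      have hprod : φ y * T ∈ lau k F j := by simpa using mul_mem_lau hY hT
      rcases eq_or_lt_of_le (show i ≤ j by omega) with h' | h
      · rw [h']
        have e : (φ y * T).coeff j = (φ y).coeff 0 * T.coeff j := by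
          have e1 : φ y = HahnSeries.C ((φ y).coeff 0) + (φ y - HahnSeries.C ((φ y).coeff 0)) := by ring
          have h2 : φ y - HahnSeries.C ((φ y).coeff 0) ∈ lau k F 1 := fun l hl => by
            rw [HahnSeries.coeff_sub, HahnSeries.C_apply]
            rcases eq_or_lt_of_le (show l ≤ 0 by omega) with rfl | h
            · rw [HahnSeries.coeff_single_same, sub_self]
            · rw [HahnSeries.coeff_single_of_ne h.ne, hY l h, sub_zero]
          conv_lhs => rw [e1, add_mul, HahnSeries.coeff_add, mul_mem_lau h2 hT j (by omega)]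
          rw [add_zero, HahnSeries.C_mul_eq_smul, HahnSeries.coeff_smul, smul_eq_mul]
        rw [e, hy0, div_mul_cancel₀ _ hc, sub_self]
      · rw [hprod i h, hz i h, sub_zero]
  obtain ⟨z, hz⟩ := step (M + N).toNat
  exact ⟨z, lau_mono (by omega) hz⟩

/-- The residue read through an expansion equals the trace of the commutator. -/
theorem tateRes_eq_locRes {P : Place k K} {φ : K →ₐ[k] F⸨X⸩} (hφ : LocRes.IsExpansionAt P.1 φ)
    (f g : K) : tateRes P f g = LocRes.locRes φ f g := by
  classical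
  have hv := hφ.1
  have hmem : ∀ z : K, φ z ∈ lau k F 0 ↔ P.1 z ≤ 1 := fun z => by
    rw [mem_lau_iff, hv, neg_zero, exp_zero]
  have hinj : Function.Injective φ := φ.toRingHom.injective
  have hdense := exists_near_series hφ
  -- compatible projections
  obtain ⟨B, hB⟩ := (oSub P).exists_isCompl
  set p := (oSub P).projectionOnto B hB
  have hp : ∀ a : oSub P, p a = a := fun a => Submodule.projectionOnto_apply_left hB a
  let e0 : B →ₗ[k] F⸨X⸩ ⧸ lau k F 0 := (lau k F 0).mkQ ∘ₗ φ.toLinearMap ∘ₗ B.subtype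
  have he0 : Function.Bijective e0 := by
    constructor
    · rw [injective_iff_map_eq_zero]
      intro b hb
      exact Subtype.ext (Submodule.disjoint_def.1 hB.disjoint _
        ((hmem _).1 ((Submodule.Quotient.mk_eq_zero _).1 hb)) b.2)
    · intro q
      induction q using Submodule.Quotient.induction_on with | _ v => ?_
      obtain ⟨z, hz⟩ := hdense v 0
      obtain ⟨o, ho, b, hb, rfl⟩ := Submodule.mem_sup.1 (hB.sup_eq_top ▸ (Submodule.mem_top : z ∈ ⊤))
      refine ⟨⟨b, hb⟩, (Submodule.Quotient.eq _).2 ?_⟩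
      rw [map_add] at hz
      have := sub_mem hz ((hmem o).2 ho)
      show φ b - v ∈ _
      convert this using 1
      ring
  let e := LinearEquiv.ofBijective e0 he0
  let p' : F⸨X⸩ →ₗ[k] lau k F 0 :=
    (LinearMap.id - φ.toLinearMap ∘ₗ B.subtype ∘ₗ e.symm.toLinearMap ∘ₗ (lau k F 0).mkQ).codRestrict _
      fun v => (Submodule.Quotient.eq _).1 (e.apply_symm_apply ((lau k F 0).mkQ v)).symm
  have hp' : ∀ a : lau k F 0, p' a = a := fun a => Subtype.ext (by
    simp [p', (Submodule.Quotient.mk_eq_zero _).2 a.2])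
  let i : oSub P →ₗ[k] lau k F 0 :=
    (φ.toLinearMap ∘ₗ (oSub P).subtype).codRestrict _ fun a => (hmem _).2 a.2
  have hpp : ∀ z : K, p' (φ z) = i (p z) := by
    intro z
    obtain ⟨o, ho, b, hb, rfl⟩ := Submodule.mem_sup.1 (hB.sup_eq_top ▸ (Submodule.mem_top : z ∈ ⊤))
    rw [map_add, map_add, map_add, hp' ⟨φ o, (hmem o).2 ho⟩, map_add, hp ⟨o, ho⟩,
      Submodule.projectionOnto_apply_of_mem_right hB hb, map_zero, add_zero]
    have h2 : e.symm ((lau k F 0).mkQ (φ b)) = ⟨b, hb⟩ := (LinearEquiv.symm_apply_eq e).2 rfl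
    have h3 : p' (φ b) = 0 := Subtype.ext (by
      show φ b - φ ((e.symm ((lau k F 0).mkQ (φ b)) : B) : K) = 0
      rw [h2, sub_self])
    rw [h3, add_zero]
    rfl
  set D := brk (toep (oSub P) p (mulL k f)) (toep (oSub P) p (mulL k g))
  set D' := brk (toep (lau k F 0) p' (mulL k (φ f))) (toep (lau k F 0) p' (mulL k (φ g)))
  have hT : ∀ (h : K) (a : oSub P), toep (lau k F 0) p' (mulL k (φ h)) (i a) = i (toep (oSub P) p (mulL k h) a) := by
    intro h a
    simp only [toep_apply, LinearMap.mulLeft_apply]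
    rw [← hpp]
    exact congrArg p' (map_mul φ h _).symm
  have hDi : ∀ a, D' (i a) = i (D a) := fun a => by
    simp only [D, D', brk, LinearMap.sub_apply, LinearMap.comp_apply, hT, map_sub]
  obtain ⟨N₁, h₁⟩ := exists_lau (k := k) (φ f)
  obtain ⟨N₂, h₂⟩ := exists_lau (k := k) (φ g)
  have hiinj : Function.Injective i := fun a b h => Subtype.ext (hinj (congrArg Subtype.val h))
  have hrange : ∀ a, D' a ∈ LinearMap.range i := fun a => by
    obtain ⟨z, hz⟩ := hdense (a : F⸨X⸩) ((2 * (N₁ + N₂) : ℕ) : ℤ)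
    have hzO : z ∈ oSub P := (hmem z).1 (by
      have := add_mem (lau_mono (Int.natCast_nonneg _) hz) a.2
      rwa [sub_add_cancel] at this)
    have h0 := brk_vanish hp' (lau_mono (by omega) h₁) (lau_mono (by omega) h₂) (i ⟨z, hzO⟩ - a) hz
    rw [map_sub, sub_eq_zero] at h0
    exact ⟨D ⟨z, hzO⟩, (hDi _).symm.trans h0⟩
  have h1 : trFR D' = trFR D := trFR_transport i hiinj hDi hrange
    (isFR_brk_toep hp' (mulL_comm _ _) (almostStable_lau _) (almostStable_lau _))
  have hstab : ∀ h : K, AlmostStable (oSub P) (mulL k h) := by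
    intro h
    let j : K ⧸ oSub P →ₗ[k] F⸨X⸩ ⧸ lau k F 0 :=
      (oSub P).mapQ (lau k F 0) φ.toLinearMap fun z hz => (hmem z).2 hz
    have hj : Function.Injective j := by
      rw [injective_iff_map_eq_zero]
      intro q
      induction q using Submodule.Quotient.induction_on with | _ z => ?_
      intro hz
      exact (Submodule.Quotient.mk_eq_zero _).2 ((hmem z).1 ((Submodule.Quotient.mk_eq_zero _).1 hz))
    refine IsFR.of_comp_injective j hj ?_
    have e : j ∘ₗ ((oSub P).mkQ ∘ₗ mulL k h ∘ₗ (oSub P).subtype) =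
        ((lau k F 0).mkQ ∘ₗ mulL k (φ h) ∘ₗ (lau k F 0).subtype) ∘ₗ i := by
      ext a
      show Submodule.Quotient.mk (φ (h * a)) = Submodule.Quotient.mk (φ h * φ a)
      rw [map_mul]
    rw [e]
    exact (almostStable_lau _).comp_right i
  rw [tateRes, trFR_brk_toep_congr hp (projO_apply P) (mulL_comm f g) (hstab f) (hstab g), ← h1,
    trFR_brk_toep_congr trunc0_apply hp' (mulL_comm _ _) (almostStable_lau _) (almostStable_lau _), tate_lau]
  rfl

end Laurent

end Groth.Agent.Res
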