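/-
The residue theorem.
-/
import Groth.Agent.L26.Res.Local
import Groth.Agent.L26.FF.RR

open WithZero

namespace Groth.Agent.Res

open Module (End)
open FunFld Groth.Agent.FF

variable {k K : Type*} [Field k] [Field K] [Algebra k K]

lemma almostStable_oSub (hK : IsFF k K) (P : Place k K) (f : K) :
    AlmostStable (oSub P) (mulL k f) := by
  obtain ⟨N, hN⟩ : ∃ N : ℕ, P.1 f ≤ exp (N : ℤ) := by
    rcases eq_or_ne f 0 with rfl | hf
    · exact ⟨0, by simp⟩
    · exact ⟨(-P.ord f).toNat, (val_eq_exp P hf).trans_le (exp_le_exp.2 (Int.self_le_toNat _))⟩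
  have := finite_residueField hK P
  have : FiniteDimensional k (RelQ (ball P 0) (ball P (N : ℤ))) :=
    (ball_quot' P (Int.natCast_nonneg N)).1
  let s : RelQ (ball P 0) (ball P (N : ℤ)) →ₗ[k] K ⧸ oSub P :=
    Submodule.liftQ _ ((oSub P).mkQ ∘ₗ (ball P (N : ℤ)).subtype) fun x hx => by
      refine (Submodule.Quotient.mk_eq_zero _).2 ?_
      show P.1 (x : K) ≤ 1
      exact (show P.1 (x : K) ≤ exp 0 from hx).trans_eq exp_zero
  have : FiniteDimensional k (LinearMap.range s) := Module.Finite.range s
  refine .of_range_le (LinearMap.range s) ?_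
  rintro _ ⟨a, rfl⟩
  refine ⟨Submodule.Quotient.mk ⟨f * a, ?_⟩, rfl⟩
  show P.1 (f * a) ≤ exp (N : ℤ)
  rw [map_mul]
  exact (mul_le_mul' hN a.2).trans_eq (mul_one _)

section Global

/-- The integral repartitions. -/
def adI : Submodule k (adele k K) := Submodule.comap (adele k K).subtype (AD 0)

/-- The diagonal repartitions. -/
def adC : Submodule k (adele k K) := Submodule.comap (adele k K).subtype (KR k K)

lemma mem_adI {a : adele k K} :
    a ∈ adI (k := k) (K := K) ↔ ∀ P : Place k K, P.1 ((a : Place k K → K) P) ≤ 1 := by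
  refine forall_congr' fun P => ?_
  show P.1 _ ≤ exp ((0 : Divisor k K) P) ↔ _
  rw [Finsupp.zero_apply, exp_zero]
  rfl

/-- Componentwise projection. -/
noncomputable def projA : adele k K →ₗ[k] adI (k := k) (K := K) :=
  ((LinearMap.pi fun P => (oSub P).subtype ∘ₗ projO P ∘ₗ LinearMap.proj P) ∘ₗ
      (adele k K).subtype).codRestrict (adele k K)
    (fun a => show ∀ᶠ P : Place k K in Filter.cofinite, _ from
      Filter.Eventually.of_forall fun P => (projO P ((a : Place k K → K) P)).2) |>.codRestrict _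
    fun a => mem_adI.2 fun P => (projO P ((a : Place k K → K) P)).2

lemma projA_apply (a : adI (k := k) (K := K)) : projA (a : adele k K) = a := by
  refine Subtype.ext (Subtype.ext (funext fun P => ?_))
  show ((projO P (((a : adele k K) : Place k K → K) P) : oSub P) : K) = _
  exact congrArg Subtype.val (projO_apply P ⟨_, mem_adI.1 a.2 P⟩)

/-- Multiplication on repartitions. -/
noncomputable def mulA (hK : IsFunctionField k K) (f : K) : End k (adele k K) :=
  ((LinearMap.pi fun P => mulL k f ∘ₗ LinearMap.proj P) ∘ₗ (adele k K).subtype).codRestrict (adele k K)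
    fun a => smul_mem_adele hK f _ a.2

lemma mulA_apply (hK : IsFunctionField k K) (f : K) (a : adele k K) (P : Place k K) :
    (mulA hK f a : Place k K → K) P = f * (a : Place k K → K) P := rfl

lemma mulA_comm (hK : IsFunctionField k K) (f g : K) : mulA hK f ∘ₗ mulA hK g = mulA hK g ∘ₗ mulA hK f := by
  refine LinearMap.ext fun a => Subtype.ext (funext fun P => ?_)
  simp only [LinearMap.comp_apply, mulA_apply]
  ring

lemma almostStable_adI (hK : IsFunctionField k K) (f : K) : AlmostStable (adI (k := k) (K := K)) (mulA hK f) := by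
  classical
  set S := (poles k f).support
  have hS : ∀ P, P ∉ S → P.1 f ≤ 1 := fun P hP => by
    have := val_le_poles hK.1 f P
    rwa [Finsupp.notMem_support_iff.1 hP, exp_zero] at this
  let one : ∀ P : Place k K, K →ₗ[k] adele k K := fun P =>
    (LinearMap.single k (fun _ : Place k K => K) P).codRestrict (adele k K) fun x => by
      refine Set.Finite.subset (Set.finite_singleton P) fun Q hQ => ?_
      by_contra hne
      exact hQ (by simp [Pi.single_eq_of_ne (show Q ≠ P from hne)])
  have hone : ∀ P, oSub P ≤ (adI (k := k) (K := K)).comap (one P) := fun P x hx => mem_adI.2 fun Q => by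
    show Q.1 (Pi.single (M := fun _ => K) P x Q) ≤ 1
    rcases eq_or_ne Q P with rfl | h
    · rwa [Pi.single_eq_same]
    · simp [Pi.single_eq_of_ne h]
  let pr : ∀ P : Place k K, adI (k := k) (K := K) →ₗ[k] oSub P := fun P =>
    (LinearMap.proj P ∘ₗ (adele k K).subtype ∘ₗ (adI (k := k) (K := K)).subtype).codRestrict _
      fun a => mem_adI.1 a.2 P
  have e : (adI (k := k) (K := K)).mkQ ∘ₗ mulA hK f ∘ₗ (adI (k := k) (K := K)).subtype =
      ∑ P ∈ S, (oSub P).mapQ _ (one P) (hone P) ∘ₗ ((oSub P).mkQ ∘ₗ mulL k f ∘ₗ (oSub P).subtype) ∘ₗ pr P := by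
    refine LinearMap.ext fun a => ?_
    rw [LinearMap.sum_apply]
    show Submodule.Quotient.mk (mulA hK f a) = ∑ P ∈ S, (adI (k := k) (K := K)).mkQ (one P (f * ((pr P a : oSub P) : K)))
    rw [← map_sum]
    refine (Submodule.Quotient.eq _).2 (mem_adI.2 fun Q => ?_)
    simp only [AddSubgroupClass.coe_sub, AddSubmonoidClass.coe_finsetSum, Pi.sub_apply, Finset.sum_apply,
      mulA_apply]
    show Q.1 (_ - ∑ P ∈ S, Pi.single (M := fun _ => K) P (f * ((a : adele k K) : Place k K → K) P) Q) ≤ 1
    simp only [Pi.single_apply, Finset.sum_ite_eq]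
    split_ifs with hQ
    · simp
    · rw [sub_zero, map_mul]
      exact Left.mul_le_one (hS Q hQ) (mem_adI.1 a.2 Q)
  rw [AlmostStable, e]
  exact IsFR.sum _ fun P _ => ((almostStable_oSub hK.1 P f).comp_right _).comp_left _

/-- The residues of `f dg` sum to zero. -/
theorem sum_tateRes_eq_zero (hK : IsFunctionField k K) (f g : K) (S : Finset (Place k K))
    (hS : ∀ P, P ∉ S → P.1 f ≤ 1 ∧ P.1 g ≤ 1) : ∑ P ∈ S, tateRes P f g = 0 := by
  classical
  set A := adI (k := k) (K := K)
  set C := adC (k := k) (K := K)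
  have hfinI : FiniteDimensional k (A ⊓ C : Submodule k (adele k K)) := by
    have := finite_L hK.1 (0 : Divisor k K)
    let d : L (0 : Divisor k K) →ₗ[k] adele k K :=
      (diag k K ∘ₗ (L (0 : Divisor k K)).subtype).codRestrict _ fun x =>
        KR_le_adele hK ⟨x, rfl⟩
    have : FiniteDimensional k (LinearMap.range d) := Module.Finite.range d
    refine Submodule.finiteDimensional_of_le (S₂ := LinearMap.range d) ?_
    rintro a ⟨ha, ⟨x, hx⟩⟩
    refine ⟨⟨x, fun P => ?_⟩, Subtype.ext hx⟩
    have := mem_adI.1 ha P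
    rw [← show diag k K x P = (a : Place k K → K) P from congrFun hx P] at this
    rw [Finsupp.zero_apply, exp_zero]
    exact this
  have hfinQ : FiniteDimensional k (adele k K ⧸ (A ⊔ C)) := by
    have := (adele_quotient hK (0 : Divisor k K)).1
    refine Module.Finite.equiv (Submodule.quotEquivOfEq (ADK 0) (A ⊔ C) ?_)
    refine le_antisymm (fun a ha => ?_) (sup_le (fun a ha => Submodule.mem_sup_left ha)
      fun a ha => Submodule.mem_sup_right ha)
    obtain ⟨b, hb, c, hc, hbc⟩ := Submodule.mem_sup.1 ha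
    exact Submodule.mem_sup.2 ⟨⟨b, AD_le_adele 0 hb⟩, hb, ⟨c, KR_le_adele hK hc⟩, hc, Subtype.ext hbc⟩
  have hC : ∀ h : K, ∀ c ∈ C, mulA hK h c ∈ C := by
    rintro h c ⟨x, hx⟩
    exact ⟨h * x, funext fun P => by
      show h * x = h * (c : Place k K → K) P
      rw [← show diag k K x P = (c : Place k K → K) P from congrFun hx P]; rfl⟩
  have h0 := trFR_brk_toep_eq_zero projA_apply C (mulA_comm hK f g) (almostStable_adI hK f)
    (almostStable_adI hK g) (hC f) (hC g)
  set D := brk (V := ↥A) (toep A projA (mulA hK f)) (toep A projA (mulA hK g))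
  let DP : ∀ P : Place k K, End k (oSub P) := fun P =>
    brk (toep (oSub P) (projO P) (mulL k f)) (toep (oSub P) (projO P) (mulL k g))
  let inA : ∀ P : Place k K, oSub P →ₗ[k] A := fun P =>
    ((LinearMap.single k (fun _ : Place k K => K) P ∘ₗ (oSub P).subtype).codRestrict (adele k K) fun x => by
      refine Set.Finite.subset (Set.finite_singleton P) fun Q hQ => ?_
      by_contra hne
      exact hQ (by simp [Pi.single_eq_of_ne (show Q ≠ P from hne)])).codRestrict _ fun x => mem_adI.2 fun Q => by
      show Q.1 (Pi.single (M := fun _ => K) P (x : K) Q) ≤ 1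
      rcases eq_or_ne Q P with rfl | h
      · rw [Pi.single_eq_same]; exact x.2
      · simp [Pi.single_eq_of_ne h]
  let pr : ∀ P : Place k K, A →ₗ[k] oSub P := fun P =>
    (LinearMap.proj P ∘ₗ (adele k K).subtype ∘ₗ A.subtype).codRestrict _ fun a => mem_adI.1 a.2 P
  have hcomp : ∀ a P, pr P (D a) = DP P (pr P a) := fun a P => rfl
  have eD : D = ∑ P ∈ S, (inA P ∘ₗ DP P) ∘ₗ pr P := by
    refine LinearMap.ext fun a => Subtype.ext (Subtype.ext (funext fun Q => ?_))
    rw [show ((D a : adele k K) : Place k K → K) Q = ((pr Q (D a) : oSub Q) : K) from rfl, hcomp,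
      LinearMap.sum_apply]
    simp only [AddSubmonoidClass.coe_finsetSum, Finset.sum_apply]
    show _ = ∑ P ∈ S, Pi.single (M := fun _ => K) P ((DP P (pr P a) : oSub P) : K) Q
    simp only [Pi.single_apply, Finset.sum_ite_eq]
    split_ifs with hQ
    · rfl
    · have h1 : DP Q = 0 := brk_toep_eq_zero (projO_apply Q) (mulL_comm f g)
        (fun a ha => by
          show Q.1 (f * a) ≤ 1
          rw [map_mul]; exact Left.mul_le_one (hS Q hQ).1 ha)
        (fun a ha => by
          show Q.1 (g * a) ≤ 1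
          rw [map_mul]; exact Left.mul_le_one (hS Q hQ).2 ha)
      rw [h1]; rfl
  have hfr : ∀ P, IsFR (W := ↥A) (inA P ∘ₗ DP P) := fun P =>
    (isFR_brk_toep (projO_apply P) (mulL_comm f g) (almostStable_oSub hK.1 P f)
      (almostStable_oSub hK.1 P g)).comp_left _
  rw [eD, trFR_sum S fun P _ => (hfr P).comp_right _] at h0
  refine Eq.trans (Finset.sum_congr rfl fun P _ => ?_) h0
  rw [← trFR_comm (pr P) (hfr P)]
  show trFR (DP P) = _
  congr 1
  refine LinearMap.ext fun x => Subtype.ext ?_
  show ((DP P x : oSub P) : K) = Pi.single (M := fun _ => K) P ((DP P x : oSub P) : K) P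
  rw [Pi.single_eq_same]

end Global

end Groth.Agent.Res
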