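/-
Geometric function fields are separably generated; Kähler differentials have rank one.
-/
import Groth.Agent.L26.FF.Exists
import Mathlib.FieldTheory.SeparablyGenerated
import Mathlib.RingTheory.Unramified.Field
import Mathlib.RingTheory.Kaehler.Basic
import Mathlib.LinearAlgebra.Basis.VectorSpace
import Mathlib.RingTheory.TensorProduct.Maps

open IntermediateField TensorProduct

universe u v

namespace Groth.Agent.Res

open FunFld Groth.Agent.FF

variable {k : Type u} {K : Type v} [Field k] [Field K] [Algebra k K]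

lemma essFiniteType (hK : IsFF k K) : Algebra.EssFiniteType k K := by
  obtain ⟨x, -, hfin⟩ := hK
  have : Algebra.EssFiniteType k k⟮x⟯ :=
    IntermediateField.essFiniteType_iff.2 (fg_adjoin_finset {x} |> fun h => by simpa using h)
  exact Algebra.EssFiniteType.comp k k⟮x⟯ K

lemma eq_zero_of_pow_eq_zero' {R : Type*} [CommSemiring R] (hF : IsField R) {z : R} {p : ℕ}
    (h : z ^ p = 0) : z = 0 := by
  by_contra h0
  obtain ⟨w, hw⟩ := hF.mul_inv_cancel h0
  obtain ⟨a, b, hab⟩ := hF.exists_pair_ne
  have h1 : (0 : R) = 1 := by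
    calc (0 : R) = z ^ p * w ^ p := by rw [h, zero_mul]
      _ = 1 := by rw [← mul_pow, hw, one_pow]
  exact hab (by rw [← one_mul a, ← h1, zero_mul, ← one_mul b, ← h1, zero_mul])

lemma pow_char_aux {k' : Type u} [Field k'] [Algebra k k'] (hF : IsField (k' ⊗[k] K)) (p : ℕ)
    [hp : Fact p.Prime] [CharP k p] {s : Finset K} (hs : LinearIndepOn k id (s : Set K)) (c : K → k)
    (g : K → k') (hgp : ∀ i ∈ s, g i ^ p = algebraMap k k' (c i))
    (hc : ∑ i ∈ s, c i • i ^ p = 0) {x : K} (hx : x ∈ s) : c x = 0 := by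
  classical
  have : Nontrivial (k' ⊗[k] K) := ⟨hF.exists_pair_ne⟩
  have : CharP (k' ⊗[k] K) p := charP_of_injective_algebraMap (algebraMap k (k' ⊗[k] K)).injective p
  let z : k' ⊗[k] K := ∑ i ∈ s, g i ⊗ₜ i
  have hzp : z ^ p = 0 := by
    simp only [z]
    rw [sum_pow_char p]
    calc ∑ i ∈ s, (g i ⊗ₜ[k] i) ^ p = ∑ i ∈ s, (1 : k') ⊗ₜ[k] (c i • i ^ p) := by
          refine Finset.sum_congr rfl fun i hi => ?_
          rw [Algebra.TensorProduct.tmul_pow, hgp i hi, Algebra.algebraMap_eq_smul_one,
            TensorProduct.smul_tmul]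
      _ = 0 := by rw [← TensorProduct.tmul_sum, hc, TensorProduct.tmul_zero]
  have hz : z = 0 := eq_zero_of_pow_eq_zero' hF hzp
  -- a dual functional
  obtain ⟨f, hf⟩ : ∃ f : K →ₗ[k] k, ∀ i ∈ s, f i = if i = x then 1 else 0 := by
    let B := Module.Basis.extend hs
    have hsub : (s : Set K) ⊆ hs.extend (Set.subset_univ _) := hs.subset_extend _
    refine ⟨B.coord ⟨x, hsub hx⟩, fun i hi => ?_⟩
    have e : B ⟨i, hsub hi⟩ = i := Module.Basis.extend_apply_self hs _
    conv_lhs => rw [← e]
    simp [B.repr_self, Finsupp.single_apply]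
  have h1 : TensorProduct.rid k k' (f.lTensor k' z) = 0 := by rw [hz, map_zero, map_zero]
  simp only [z, map_sum, LinearMap.lTensor_tmul, TensorProduct.rid_tmul] at h1
  rw [Finset.sum_eq_single x (fun i hi hne => by rw [hf i hi, if_neg hne, zero_smul])
    (fun h => absurd hx h), hf x hx, if_pos rfl, one_smul] at h1
  have h2 := hgp x hx
  rw [h1, zero_pow hp.out.ne_zero, eq_comm, map_eq_zero] at h2
  exact h2

/-- MacLane's criterion for geometric fields. -/
lemma linearIndepOn_pow (hg : IsGeometric k K) (p : ℕ) [hp : Fact p.Prime] [CharP k p] (s : Finset K)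
    (hs : LinearIndepOn k id (s : Set K)) : LinearIndepOn k (· ^ p) (s : Set K) := by
  classical
  rw [linearIndepOn_finset_iff]
  intro c hc x hx
  let Ω := AlgebraicClosure k
  choose γ hγ using fun i : K => IsAlgClosed.exists_pow_nat_eq (algebraMap k Ω (c i)) hp.out.pos
  let k' : IntermediateField k Ω := adjoin k (s.image γ : Set Ω)
  have hfin : FiniteDimensional k k' :=
    finiteDimensional_adjoin fun z _ => (Algebra.IsAlgebraic.isAlgebraic z).isIntegral
  refine pow_char_aux (hg k' hfin) p hs c (fun i => if h : i ∈ s then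
    ⟨γ i, subset_adjoin k _ (Finset.mem_coe.2 (Finset.mem_image_of_mem γ h))⟩ else 0)
    (fun i hi => Subtype.ext ?_) hc hx
  simp only [dif_pos hi, SubmonoidClass.coe_pow, hγ]
  rfl

/-- A separating element. -/
theorem exists_separating (hK : IsFunctionField k K) (hg : IsGeometric k K) :
    ∃ x : K, Transcendental k x ∧ Algebra.IsSeparable k⟮x⟯ K := by
  obtain ⟨x, hx, hfin⟩ := hK.1
  rcases CharP.exists' k with hch | ⟨p, hp, hpk⟩
  · have : Algebra.IsAlgebraic k⟮x⟯ K := Algebra.IsAlgebraic.of_finite _ _
    exact ⟨x, hx, inferInstance⟩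
  have : ExpChar k p := .prime hp.out
  have := essFiniteType hK.1
  obtain ⟨s, hs, hsep⟩ := exists_isTranscendenceBasis_and_isSeparable_of_linearIndepOn_pow_of_essFiniteType
    p hp.out (fun s => linearIndepOn_pow hg p s) (K := K)
  have hx1 : IsTranscendenceBasis k ![x] := by
    refine (algebraicIndependent_iff_transcendental.2 hx).isTranscendenceBasis_iff_isAlgebraic.2 ?_
    rw [show Set.range ![x] = {x} by simp, ← IntermediateField.isAlgebraic_adjoin_iff_top]
    exact Algebra.IsAlgebraic.of_finite _ _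
  have hcard := IsTranscendenceBasis.lift_cardinalMk_eq hs hx1
  simp only [Cardinal.mk_fintype, Cardinal.lift_natCast, Nat.cast_inj, Fintype.card_coe,
    Fintype.card_fin] at hcard
  obtain ⟨y, rfl⟩ := Finset.card_eq_one.1 hcard
  refine ⟨y, (algebraicIndependent_singleton_iff (⟨y, Finset.mem_singleton_self y⟩ :
    ({y} : Finset K))).1 hs.1, ?_⟩
  rwa [Finset.coe_singleton] at hsep

section Omega

open KaehlerDifferential

lemma derivation_eq_zero {x : K} [Algebra.IsSeparable k⟮x⟯ K] {M : Type*} [AddCommGroup M]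
    [Module K M] [Module k M] [IsScalarTower k K M] (δ : Derivation k K M) (hx : δ x = 0) : δ = 0 := by
  let S : IntermediateField k K :=
  { carrier := {z | δ z = 0}
    mul_mem' := fun {a b} ha hb => by
      show δ (a * b) = 0
      rw [δ.leibniz, show δ a = 0 from ha, show δ b = 0 from hb]; simp
    one_mem' := δ.map_one_eq_zero
    add_mem' := fun {a b} ha hb => by
      show δ (a + b) = 0
      rw [map_add, show δ a = 0 from ha, show δ b = 0 from hb, add_zero]
    zero_mem' := map_zero δ
    algebraMap_mem' := δ.map_algebraMap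
    inv_mem' := fun a ha => by
      show δ a⁻¹ = 0
      rw [δ.leibniz_inv, show δ a = 0 from ha, smul_zero] }
  have hle : k⟮x⟯ ≤ S := adjoin_simple_le_iff.2 hx
  let δ' : Derivation k⟮x⟯ K M :=
  { toFun := δ
    map_add' := δ.map_add
    map_smul' := fun a z => by
      show δ ((a : K) * z) = (a : K) • δ z
      rw [δ.leibniz, show δ (a : K) = 0 from hle a.2, smul_zero, add_zero]
    map_one_eq_zero' := δ.map_one_eq_zero
    leibniz' := δ.leibniz }
  have := Algebra.FormallyUnramified.of_isSeparable k⟮x⟯ K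
  ext z
  show δ' z = 0
  rw [← δ'.liftKaehlerDifferential_comp_D, Subsingleton.elim (KaehlerDifferential.D k⟮x⟯ K z) 0,
    map_zero]

lemma span_D_eq_top {x : K} [Algebra.IsSeparable k⟮x⟯ K] :
    Submodule.span K {KaehlerDifferential.D k K x} = ⊤ := by
  set S := Submodule.span K {KaehlerDifferential.D k K x}
  by_contra hne
  obtain ⟨f, hf0, hf⟩ := Submodule.exists_le_ker_of_lt_top _ (lt_top_iff_ne_top.2 hne)
  refine hf0 (LinearMap.ext fun ω => ?_)
  have h0 := derivation_eq_zero (x := x) (f.compDer (KaehlerDifferential.D k K))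
    (hf (Submodule.mem_span_singleton_self _))
  have := KaehlerDifferential.span_range_derivation k K ▸ (Submodule.mem_top : ω ∈ ⊤)
  induction this using Submodule.span_induction with
  | mem w hw =>
    obtain ⟨z, rfl⟩ := hw
    exact congrArg (fun d : Derivation k K K => d z) h0
  | zero => simp
  | add a b _ _ ha hb => simp [ha, hb]
  | smul c a _ ha => simp [ha]

/-- `dx ≠ 0` for a separating transcendental `x`. -/
lemma D_ne_zero (hK : IsFunctionField k K) {x : K} (hx : Transcendental k x)
    [Algebra.IsSeparable k⟮x⟯ K] : KaehlerDifferential.D k K x ≠ 0 := by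
  intro h
  have hsp := span_D_eq_top (k := k) (x := x)
  rw [h, Submodule.span_zero_singleton] at hsp
  have : Subsingleton (Ω[K⁄k]) := (Submodule.subsingleton_iff K).1 (subsingleton_of_bot_eq_top hsp)
  have : Algebra.FormallyUnramified k K := ⟨inferInstance⟩
  have := essFiniteType hK.1
  have : Algebra.IsSeparable k K := (Algebra.FormallyUnramified.iff_isSeparable k K).1 inferInstance
  exact hx (Algebra.IsSeparable.isIntegral k x).isAlgebraic

theorem finrank_omega (hK : IsFunctionField k K) (hg : IsGeometric k K) :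
    Module.finrank K (Ω[K⁄k]) = 1 := by
  obtain ⟨x, hx, _⟩ := exists_separating hK hg
  exact finrank_eq_one _ (D_ne_zero hK hx) fun w =>
    Submodule.mem_span_singleton.1 (span_D_eq_top (k := k) (x := x) ▸ Submodule.mem_top)

lemma exists_smul_D (hK : IsFunctionField k K) (hg : IsGeometric k K) {v : K}
    (hv : KaehlerDifferential.D k K v ≠ 0) (w : K) :
    ∃ c : K, c • KaehlerDifferential.D k K v = KaehlerDifferential.D k K w :=
  exists_smul_eq_of_finrank_eq_one (finrank_omega hK hg) hv _

end Omega

end Groth.Agent.Res
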