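/-
Orders and residues of differentials; the canonical Weil differential.
-/
import Groth.Agent.L26.Res.Global
import Groth.Agent.L26.Res.Sep

open WithZero
open scoped LaurentSeries

namespace Groth.Agent.Res

open FunFld Groth.Agent.FF

universe u v w

variable {k : Type u} {K : Type v} [Field k] [Field K] [Algebra k K] {F : Type w} [Field F] [Algebra k F]

section Local

variable {P : Place k K} {φ : K →ₐ[k] F⸨X⸩}

lemma val_map (hφ : LocRes.IsExpansionAt P.1 φ) (f : K) : Valued.v (φ f) = P.1 f := hφ.1 f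

/-- The series of `u dv` is `φ u · (φ v)'`. -/
lemma vDiff_eq (φ : K →ₐ[k] F⸨X⸩) (u v : K) :
    LocRes.vDiff φ u v = Valued.v (φ u) * Valued.v (LocRes.D F (φ v)) := map_mul _ _ _

lemma v_D_le {f : F⸨X⸩} {m : ℤ} (h : Valued.v f ≤ exp m) :
    Valued.v (LocRes.D F f) ≤ exp (m + 1) := by
  rw [show m = -(-m) by ring, LaurentSeries.valuation_le_iff_coeff_lt_eq_zero] at h
  rw [show m + 1 = -(-m - 1) by ring, LaurentSeries.valuation_le_iff_coeff_lt_eq_zero]
  intro i hi
  rw [LocRes.D_coeff, h (i + 1) (by omega), smul_zero]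

lemma v_D_le_one {f : F⸨X⸩} (h : Valued.v f ≤ 1) : Valued.v (LocRes.D F f) ≤ 1 := by
  rw [← exp_zero, show (0 : ℤ) = -0 by ring, LaurentSeries.valuation_le_iff_coeff_lt_eq_zero] at h ⊢
  intro i hi
  rw [LocRes.D_coeff]
  rcases eq_or_ne (i + 1) 0 with h' | h'
  · rw [h', zero_smul]
  · rw [h (i + 1) (by omega), smul_zero]

lemma resExp_eq_zero_of_vDiff {u v : K} (h : LocRes.vDiff φ u v ≤ 1) : LocRes.resExp φ u v = 0 := by
  rw [LocRes.vDiff, ← exp_zero, show (0 : ℤ) = -0 by ring,
    LaurentSeries.valuation_le_iff_coeff_lt_eq_zero] at h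
  exact h (-1) (by norm_num)

lemma vDiff_le_one (hφ : LocRes.IsExpansionAt P.1 φ) {u v : K} (hu : P.1 u ≤ 1) (hv : P.1 v ≤ 1) :
    LocRes.vDiff φ u v ≤ 1 := by
  rw [vDiff_eq, val_map hφ]
  exact Left.mul_le_one hu (v_D_le_one ((val_map hφ v).trans_le hv))

lemma resExp_eq_zero (hφ : LocRes.IsExpansionAt P.1 φ) {u v : K} (hu : P.1 u ≤ 1) (hv : P.1 v ≤ 1) :
    LocRes.resExp φ u v = 0 :=
  resExp_eq_zero_of_vDiff (vDiff_le_one hφ hu hv)

/-- The derivative of a uniformizer is a unit. -/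
lemma vDiff_uniformizer (hφ : LocRes.IsExpansionAt P.1 φ) {t : K} (ht : P.1 t = exp (-1 : ℤ)) :
    LocRes.vDiff φ 1 t = 1 := by
  rw [vDiff_eq, map_one, map_one, one_mul]
  refine le_antisymm (v_D_le_one ?_) (not_lt.1 fun hlt => ?_)
  · rw [val_map hφ, ht, exp_le_one']; norm_num
  have h1 := (LaurentSeries.valuation_le_iff_coeff_lt_eq_zero F).1 (lt_one_le_exp hlt) 0 (by norm_num)
  rw [LocRes.D_coeff, zero_add, one_smul] at h1
  have h2 : Valued.v (φ t) ≤ exp (-2 : ℤ) := by
    rw [LaurentSeries.valuation_le_iff_coeff_lt_eq_zero]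
    intro i hi
    rcases eq_or_lt_of_le (show i ≤ 1 by omega) with rfl | h
    · exact h1
    · exact (LaurentSeries.valuation_le_iff_coeff_lt_eq_zero F).1 ((val_map hφ t).trans ht).le i h
  rw [val_map hφ, ht, exp_le_exp] at h2
  norm_num at h2

lemma D_map_smul (φ : K →ₐ[k] F⸨X⸩) {v w c : K}
    (h : c • KaehlerDifferential.D k K v = KaehlerDifferential.D k K w) :
    φ c * LocRes.D F (φ v) = LocRes.D F (φ w) := by
  let _i := φ.toRingHom.toAlgebra
  have _t : IsScalarTower k K F⸨X⸩ := LocRes.isScalarTower_exp φ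
  have h1 := congrArg (LocRes.dExp φ).liftKaehlerDifferential h
  rw [map_smul, Derivation.liftKaehlerDifferential_comp_D, Derivation.liftKaehlerDifferential_comp_D] at h1
  exact h1

lemma D_map_eq_zero (φ : K →ₐ[k] F⸨X⸩) {v : K} (h : KaehlerDifferential.D k K v = 0) :
    LocRes.D F (φ v) = 0 := by
  have := D_map_smul φ (v := v) (w := v) (c := 0) (by rw [zero_smul, h])
  simpa using this.symm

lemma vDiff_ne_zero_iff (hK : IsFunctionField k K) (hg : IsGeometric k K)
    (hφ : LocRes.IsExpansionAt P.1 φ) (u v : K) :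
    LocRes.vDiff φ u v ≠ 0 ↔ u ≠ 0 ∧ KaehlerDifferential.D k K v ≠ 0 := by
  rw [vDiff_eq, val_map hφ, mul_ne_zero_iff, Valuation.ne_zero_iff, Valuation.ne_zero_iff]
  refine and_congr Iff.rfl ⟨fun h h0 => h (D_map_eq_zero φ h0), fun h h0 => ?_⟩
  obtain ⟨t, -, ht⟩ := exists_val_eq P (-1)
  obtain ⟨c, hc⟩ := exists_smul_D hK hg h t
  have := D_map_smul φ hc
  rw [h0, mul_zero] at this
  have h1 := vDiff_uniformizer hφ ht
  rw [vDiff_eq, ← this, map_zero, mul_zero] at h1
  exact zero_ne_one h1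

lemma vDiff_eq_exp {u v : K} (h : LocRes.vDiff φ u v ≠ 0) :
    LocRes.vDiff φ u v = exp (-LocRes.ordDiff φ u v) := by
  rw [LocRes.ordDiff, neg_neg, exp_log h]

/-- Derivations of the coefficient field act coefficientwise. -/
lemma coeffwise_leibniz (d : Derivation k F F) (f g : F⸨X⸩) :
    (f * g).map (d : F →ₗ[k] F).toAddMonoidHom =
      f * g.map (d : F →ₗ[k] F).toAddMonoidHom + g * f.map (d : F →ₗ[k] F).toAddMonoidHom := by
  refine HahnSeries.ext (funext fun n => ?_)
  rw [HahnSeries.coeff_add, mul_comm g,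
    HahnSeries.coeff_mul_right' g.isPWO_support (y := g.map (d : F →ₗ[k] F).toAddMonoidHom) (by
      intro i hi hg
      exact hi (by simp [hg])),
    HahnSeries.coeff_mul_left' f.isPWO_support (x := f.map (d : F →ₗ[k] F).toAddMonoidHom) (by
      intro i hi hf
      exact hi (by simp [hf]))]
  simp only [HahnSeries.map_coeff, HahnSeries.coeff_mul, map_sum, ← Finset.sum_add_distrib]
  refine Finset.sum_congr rfl fun ij _ => ?_
  show d _ = _
  rw [d.leibniz]
  simp [mul_comm]

lemma isSeparable_coeff (hK : IsFunctionField k K) (hg : IsGeometric k K) [FiniteDimensional k F]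
    (hφ : LocRes.IsExpansionAt P.1 φ) : Algebra.IsSeparable k F := by
  suffices hder : ∀ d : Derivation k F F, d = 0 by
    have hsub : Subsingleton (Ω[F⁄k]) := by
      rw [← not_nontrivial_iff_subsingleton]
      intro hnt
      obtain ⟨ω, hω⟩ := exists_ne (0 : Ω[F⁄k])
      obtain ⟨f, hf⟩ : ∃ f : Ω[F⁄k] →ₗ[F] F, f ω ≠ 0 := by
        by_contra hc
        push Not at hc
        exact hω ((Module.forall_dual_apply_eq_zero_iff F ω).1 hc)
      have h0 := hder (f.compDer (KaehlerDifferential.D k F))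
      have : f = 0 := LinearMap.ext_on (KaehlerDifferential.span_range_derivation k F) (by
        rintro _ ⟨a, rfl⟩
        exact congrArg (fun d : Derivation k F F => d a) h0)
      exact hf (by rw [this]; rfl)
    have : Algebra.FormallyUnramified k F := ⟨hsub⟩
    exact (Algebra.FormallyUnramified.iff_isSeparable k F).1 inferInstance
  intro d
  let _i := φ.toRingHom.toAlgebra
  have _t : IsScalarTower k K F⸨X⸩ := LocRes.isScalarTower_exp φ
  have hsmul : ∀ (c : k) (x : F⸨X⸩) (i : ℤ), (c • x).coeff i = c • x.coeff i :=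
    fun c x i => HahnSeries.coeff_smul
  let δ : Derivation k K F⸨X⸩ :=
  { toFun := fun a => (φ a).map (d : F →ₗ[k] F).toAddMonoidHom
    map_add' := fun a b => by
      refine HahnSeries.ext (funext fun i => ?_)
      simp
    map_smul' := fun c a => by
      refine HahnSeries.ext (funext fun i => ?_)
      rw [Algebra.smul_def, map_mul, LocRes.map_algebraMap, HahnSeries.C_mul_eq_smul]
      simp only [HahnSeries.map_coeff, RingHom.id_apply, hsmul, HahnSeries.coeff_smul, smul_eq_mul,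
        ← Algebra.smul_def]
      exact d.map_smul c _
    map_one_eq_zero' := by
      show (φ 1).map (d : F →ₗ[k] F).toAddMonoidHom = 0
      refine HahnSeries.ext (funext fun i => ?_)
      simp only [map_one, HahnSeries.map_coeff, HahnSeries.coeff_one, HahnSeries.coeff_zero]
      split_ifs <;> simp
    leibniz' := fun a b => by
      show (φ (a * b)).map (d : F →ₗ[k] F).toAddMonoidHom = φ a * _ + φ b * _
      rw [map_mul]
      exact coeffwise_leibniz d _ _ }
  obtain ⟨t, -, ht⟩ := exists_val_eq P (-1)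
  have hDt : KaehlerDifferential.D k K t ≠ 0 :=
    ((vDiff_ne_zero_iff hK hg hφ 1 t).1 (by rw [vDiff_uniformizer hφ ht]; exact one_ne_zero)).2
  obtain ⟨q, hq⟩ : ∃ q : F⸨X⸩, δ t = q * LocRes.D F (φ t) := by
    have h0 : LocRes.D F (φ t) ≠ 0 := fun h0 => by
      have := vDiff_uniformizer hφ ht
      rw [vDiff_eq, h0, map_zero, mul_zero] at this
      exact zero_ne_one this
    exact ⟨δ t / LocRes.D F (φ t), (div_mul_cancel₀ _ h0).symm⟩
  have hall : ∀ w, δ w = q * LocRes.D F (φ w) := fun w => by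
    obtain ⟨c, hc⟩ := exists_smul_D hK hg hDt w
    have h1 := congrArg δ.liftKaehlerDifferential hc
    rw [map_smul, Derivation.liftKaehlerDifferential_comp_D, Derivation.liftKaehlerDifferential_comp_D] at h1
    rw [← h1, ← D_map_smul φ hc, hq]
    show φ c * _ = _
    ring
  ext a
  obtain ⟨N, hN⟩ := exists_lau (k := k) q
  obtain ⟨z, hz⟩ := exists_near_series hφ (HahnSeries.C a) ((N + 2 : ℕ) : ℤ)
  have h1 : LocRes.D F (φ z) ∈ lau k F ((N + 1 : ℕ) : ℤ) := fun i hi => by
    have h2 : (φ z).coeff (i + 1) = (HahnSeries.C a).coeff (i + 1) :=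
      sub_eq_zero.1 (hz (i + 1) (by omega))
    rw [LocRes.D_coeff, h2]
    rcases eq_or_ne (i + 1) 0 with h | h
    · rw [h, zero_smul]
    · rw [HahnSeries.C_apply, HahnSeries.coeff_single_of_ne h, smul_zero]
  have h3 : (δ z).coeff 0 = 0 := by
    rw [hall]
    exact mul_mem_lau hN h1 0 (by omega)
  have h4 : (φ z).coeff 0 = a := (sub_eq_zero.1 (hz 0 (by omega))).trans (by simp)
  simpa [δ, h4] using h3

lemma exists_trace_ne_zero (hK : IsFunctionField k K) (hg : IsGeometric k K) [FiniteDimensional k F]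
    (hφ : LocRes.IsExpansionAt P.1 φ) : ∃ b : F, Algebra.trace k F b ≠ 0 := by
  have := isSeparable_coeff hK hg hφ
  by_contra h
  push Not at h
  exact Algebra.trace_ne_zero k F (LinearMap.ext h)

/-- A differential of order `n` pairs nontrivially with some element of order `≥ -n-1`. -/
lemma exists_locRes_ne_zero (hK : IsFunctionField k K) (hg : IsGeometric k K) [FiniteDimensional k F]
    (hφ : LocRes.IsExpansionAt P.1 φ) {u v : K} (h : LocRes.vDiff φ u v ≠ 0) :
    ∃ y : K, P.1 y ≤ exp (LocRes.ordDiff φ u v + 1) ∧ LocRes.locRes φ (y * u) v ≠ 0 := by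
  obtain ⟨b, hb⟩ := exists_trace_ne_zero hK hg hφ
  set n := LocRes.ordDiff φ u v
  set W := φ u * LocRes.D F (φ v) with hW
  have hv : Valued.v W = exp (-n) := vDiff_eq_exp h
  have hWl : W ∈ lau k F n := mem_lau_iff.2 hv.le
  have hc : W.coeff n ≠ 0 := fun h0 => by
    have h1 : W ∈ lau k F (n + 1) := fun i hi => by
      rcases eq_or_lt_of_le (show i ≤ n by omega) with h' | h'
      · rw [h', h0]
      · exact hWl i h'
    rw [mem_lau_iff, hv, exp_le_exp] at h1
    omega
  obtain ⟨y, hy⟩ := exists_near_series hφ (HahnSeries.single (-1 - n) (b / W.coeff n)) (-n)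
  have hyl : φ y ∈ lau k F (-n - 1) := fun i hi => by
    rw [sub_eq_zero.1 (hy i (by omega)), HahnSeries.coeff_single_of_ne (by omega)]
  refine ⟨y, ?_, ?_⟩
  · rw [← val_map hφ, show n + 1 = -(-n - 1) by ring]
    exact mem_lau_iff.1 hyl
  · rw [LocRes.locRes, LocRes.resExp, LocRes.res_apply, map_mul, mul_assoc, ← hW]
    have e : φ y = HahnSeries.single (-1 - n) (b / W.coeff n) +
        (φ y - HahnSeries.single (-1 - n) (b / W.coeff n)) := by ring
    have h2 := mul_mem_lau hy hWl (-1) (by omega)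
    rw [e, add_mul, HahnSeries.coeff_add, h2, add_zero, HahnSeries.coeff_single_mul,
      show (-1 : ℤ) - (-1 - n) = n by ring, div_mul_cancel₀ _ hc]
    exact hb

lemma locRes_eq_zero_of_vDiff {u v : K} (h : LocRes.vDiff φ u v ≤ 1) : LocRes.locRes φ u v = 0 := by
  rw [LocRes.locRes, resExp_eq_zero_of_vDiff h, map_zero]

end Local

section Global

variable {F : Place k K → Type w} [∀ P, Field (F P)] [∀ P, Algebra k (F P)]
  [∀ P, FiniteDimensional k (F P)]

theorem residue_theorem (hK : IsFunctionField k K) (φ : ∀ P, K →ₐ[k] (F P)⸨X⸩)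
    (hφ : ∀ P, LocRes.IsExpansionAt P.1 (φ P)) (u v : K) :
    (Function.support fun P => LocRes.locRes (φ P) u v).Finite ∧
      ∑ᶠ P, LocRes.locRes (φ P) u v = 0 := by
  classical
  set S := (poles k u).support ∪ (poles k v).support
  have hS : ∀ P, P ∉ S → P.1 u ≤ 1 ∧ P.1 v ≤ 1 := fun P hP => by
    simp only [S, Finset.mem_union, not_or, Finsupp.notMem_support_iff] at hP
    have h1 := val_le_poles hK.1 u P
    have h2 := val_le_poles hK.1 v P
    rw [hP.1, exp_zero] at h1
    rw [hP.2, exp_zero] at h2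
    exact ⟨h1, h2⟩
  have hsub : (Function.support fun P => LocRes.locRes (φ P) u v) ⊆ S := fun P hP => by
    by_contra h
    refine hP (locRes_eq_zero_of_vDiff (vDiff_le_one (hφ P) (hS P h).1 (hS P h).2))
  refine ⟨S.finite_toSet.subset hsub, ?_⟩
  rw [finsum_eq_sum_of_support_subset _ hsub, ← sum_tateRes_eq_zero hK u v S hS]
  exact Finset.sum_congr rfl fun P _ => (tateRes_eq_locRes (hφ P) u v).symm

lemma adele_support (hK : IsFunctionField k K) (φ : ∀ P, K →ₐ[k] (F P)⸨X⸩)
    (hφ : ∀ P, LocRes.IsExpansionAt P.1 (φ P)) (a : adele k K) (u v : K) :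
    {P : Place k K | LocRes.resExp (φ P) ((a : Place k K → K) P * u) v ≠ 0}.Finite := by
  refine Set.Finite.subset ((Filter.eventually_cofinite.1 a.2).union
    ((poles k u).support.finite_toSet.union (poles k v).support.finite_toSet)) fun P hP => ?_
  by_contra h
  simp only [Set.mem_union, Finset.mem_coe, Set.mem_ofPred_eq, not_or, not_not, Finsupp.notMem_support_iff] at h
  have h1 := val_le_poles hK.1 u P
  have h2 := val_le_poles hK.1 v P
  rw [h.2.1, exp_zero] at h1
  rw [h.2.2, exp_zero] at h2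
  exact hP (resExp_eq_zero (hφ P) (by rw [map_mul]; exact Left.mul_le_one h.1 h1) h2)

lemma adele_support' (hK : IsFunctionField k K) (φ : ∀ P, K →ₐ[k] (F P)⸨X⸩)
    (hφ : ∀ P, LocRes.IsExpansionAt P.1 (φ P)) (a : adele k K) (u v : K) :
    (Function.support fun P => LocRes.locRes (φ P) ((a : Place k K → K) P * u) v).Finite :=
  (adele_support hK φ hφ a u v).subset fun P hP h0 => hP (by
    show Algebra.trace k (F P) (LocRes.resExp (φ P) _ v) = 0
    rw [h0, map_zero])

/-- The residue pairing with `u dv`. -/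
noncomputable def resW (hK : IsFunctionField k K) (φ : ∀ P, K →ₐ[k] (F P)⸨X⸩)
    (hφ : ∀ P, LocRes.IsExpansionAt P.1 (φ P)) (u v : K) : Module.Dual k (adele k K) where
  toFun a := ∑ᶠ P, LocRes.locRes (φ P) ((a : Place k K → K) P * u) v
  map_add' a b := by
    rw [← finsum_add_distrib (adele_support' hK φ hφ a u v) (adele_support' hK φ hφ b u v)]
    refine finsum_congr fun P => ?_
    simp only [LocRes.locRes, LocRes.resExp, Submodule.coe_add, Pi.add_apply, add_mul, map_add]
  map_smul' c a := by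
    rw [RingHom.id_apply, smul_finsum' c (adele_support' hK φ hφ a u v)]
    refine finsum_congr fun P => ?_
    have e : LocRes.resExp (φ P) ((c • (a : Place k K → K)) P * u) v =
        algebraMap k (F P) c * LocRes.resExp (φ P) ((a : Place k K → K) P * u) v := by
      simp only [LocRes.resExp, Pi.smul_apply, Algebra.smul_def, LocRes.res_apply, map_mul,
        LocRes.map_algebraMap, mul_assoc]
      rw [HahnSeries.C_mul_eq_smul, HahnSeries.coeff_smul, smul_eq_mul]
    show Algebra.trace k (F P) _ = c • Algebra.trace k (F P) _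
    rw [Submodule.coe_smul, e, ← Algebra.smul_def, map_smul]

lemma resW_single (hK : IsFunctionField k K) (φ : ∀ P, K →ₐ[k] (F P)⸨X⸩)
    (hφ : ∀ P, LocRes.IsExpansionAt P.1 (φ P)) (u v : K) [DecidableEq (Place k K)] {E : Divisor k K}
    (P : Place k K) {y : K} (hy : P.1 y ≤ exp (E P)) :
    ∃ a : adele k K, (a : Place k K → K) ∈ AD E ∧ resW hK φ hφ u v a = LocRes.locRes (φ P) (y * u) v := by
  have hmem : Pi.single (M := fun _ => K) P y ∈ AD E := fun Q => by
    rcases eq_or_ne Q P with rfl | h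
    · rwa [Pi.single_eq_same]
    · simp [Pi.single_eq_of_ne h]
  refine ⟨⟨_, AD_le_adele E hmem⟩, hmem, ?_⟩
  show ∑ᶠ Q, LocRes.locRes (φ Q) (Pi.single (M := fun _ => K) P y Q * u) v = _
  rw [finsum_eq_single _ P fun Q h => by simp [Pi.single_eq_of_ne h, LocRes.locRes, LocRes.resExp]]
  rw [Pi.single_eq_same]

theorem resW_spec (hK : IsFunctionField k K) (hg : IsGeometric k K) (φ : ∀ P, K →ₐ[k] (F P)⸨X⸩)
    (hφ : ∀ P, LocRes.IsExpansionAt P.1 (φ P)) {u v : K} (hu : u ≠ 0)
    (hv : KaehlerDifferential.D k K v ≠ 0) :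
    IsWeil (resW hK φ hφ u v) ∧ resW hK φ hφ u v ≠ 0 ∧
      ∃ C : Divisor k K, (∀ P, C P = LocRes.ordDiff (φ P) u v) ∧ IsDivOf (resW hK φ hφ u v) C := by
  classical
  set ω := resW hK φ hφ u v
  have hne : ∀ P, LocRes.vDiff (φ P) u v ≠ 0 := fun P => (vDiff_ne_zero_iff hK hg (hφ P) u v).2 ⟨hu, hv⟩
  have hK0 : ∀ a : adele k K, (a : Place k K → K) ∈ KR k K → ω a = 0 := by
    rintro a ⟨x, hx⟩
    show ∑ᶠ P, LocRes.locRes (φ P) ((a : Place k K → K) P * u) v = 0
    rw [← (residue_theorem hK φ hφ (x * u) v).2]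
    exact finsum_congr fun P => by rw [← show diag k K x P = _ from congrFun hx P]; rfl
  have hzero : ∀ E : Divisor k K, (∀ P, E P ≤ LocRes.ordDiff (φ P) u v) → ω ∈ WD E := by
    intro E hE
    refine (mem_WD_iff hK).2 ⟨fun a ha => finsum_eq_zero_of_forall_eq_zero fun P => ?_, hK0⟩
    refine locRes_eq_zero_of_vDiff ?_
    have e : LocRes.vDiff (φ P) ((a : Place k K → K) P * u) v =
        P.1 ((a : Place k K → K) P) * LocRes.vDiff (φ P) u v := by
      rw [vDiff_eq, vDiff_eq, map_mul, map_mul, val_map (hφ P), mul_assoc]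
    rw [e, vDiff_eq_exp (hne P)]
    refine (mul_le_mul_left (ha P) _).trans ?_
    rw [← exp_add, exp_le_one']
    have := hE P
    omega
  have hweil : IsWeil ω := by
    refine ⟨-(poles k u + 2 • poles k v), (mem_WD_iff hK).2 ⟨fun a ha => finsum_eq_zero_of_forall_eq_zero fun P => ?_, hK0⟩⟩
    refine locRes_eq_zero_of_vDiff ?_
    have h0 := ha P
    simp only [Finsupp.neg_apply, Finsupp.add_apply, Finsupp.smul_apply, nsmul_eq_mul, Nat.cast_ofNat] at h0
    have h1 := val_le_poles hK.1 u P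
    have h2 := val_le_poles hK.1 v P
    have hp := poles_nonneg (k := k) v P
    simp only [Finsupp.zero_apply] at hp
    have h3 : Valued.v (LocRes.D (F P) (φ P v)) ≤ exp (2 * poles k v P) := by
      rcases eq_or_lt_of_le hp with h | h
      · rw [← h] at h2 ⊢
        rw [exp_zero] at h2
        simpa using v_D_le_one ((val_map (hφ P) v).trans_le h2)
      · exact (v_D_le ((val_map (hφ P) v).trans_le h2)).trans (exp_le_exp.2 (by omega))
    rw [vDiff_eq, val_map (hφ P), map_mul]
    refine (mul_le_mul' (mul_le_mul' h0 h1) h3).trans ?_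
    rw [← exp_add, ← exp_add, exp_le_one']
    omega
  have hge : ∀ {E : Divisor k K}, ω ∈ WD E → ∀ P, E P ≤ LocRes.ordDiff (φ P) u v := by
    intro E hE P
    by_contra hlt
    push Not at hlt
    obtain ⟨y, hy, hres⟩ := exists_locRes_ne_zero hK hg (hφ P) (hne P)
    obtain ⟨a, ha, hωa⟩ := resW_single hK φ hφ u v (E := E) P (hy.trans (exp_le_exp.2 (by omega)))
    exact hres (hωa.symm.trans (((mem_WD_iff hK).1 hE).1 a ha))
  have hω : ω ≠ 0 := by
    intro h0
    obtain ⟨P⟩ := nonempty_place hK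
    have := hge (E := Finsupp.single P (LocRes.ordDiff (φ P) u v + 1)) (h0 ▸ zero_mem _) P
    rw [Finsupp.single_eq_same] at this
    omega
  obtain ⟨C, hC⟩ := exists_isDivOf hK hweil hω
  refine ⟨hweil, hω, C, fun P => le_antisymm (hge ((hC C).2 le_rfl) P) ?_, hC⟩
  -- raise the coefficient at `P`
  set n := LocRes.ordDiff (φ P) u v
  by_contra hlt
  push Not at hlt
  have hCW := (mem_WD_iff hK).1 ((hC C).2 le_rfl)
  have hmem : ω ∈ WD (C + Finsupp.single P (n - C P)) := by
    refine (mem_WD_iff hK).2 ⟨fun a ha => ?_, hK0⟩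
    show ∑ᶠ Q, LocRes.locRes (φ Q) ((a : Place k K → K) Q * u) v = 0
    refine finsum_eq_zero_of_forall_eq_zero fun Q => locRes_eq_zero_of_vDiff ?_
    have e : LocRes.vDiff (φ Q) ((a : Place k K → K) Q * u) v =
        Q.1 ((a : Place k K → K) Q) * LocRes.vDiff (φ Q) u v := by
      rw [vDiff_eq, vDiff_eq, map_mul, map_mul, val_map (hφ Q), mul_assoc]
    have h0 := ha Q
    have hQ := hge ((hC C).2 le_rfl) Q
    rw [e, vDiff_eq_exp (hne Q)]
    refine (mul_le_mul_left h0 _).trans ?_
    rw [← exp_add, exp_le_one', Finsupp.add_apply, Finsupp.single_apply]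
    split_ifs with h
    · subst h; omega
    · omega
  have := (hC _).1 hmem P
  rw [Finsupp.add_apply, Finsupp.single_eq_same] at this
  omega

lemma ordDiff_finite (hK : IsFunctionField k K) (hg : IsGeometric k K) (φ : ∀ P, K →ₐ[k] (F P)⸨X⸩)
    (hφ : ∀ P, LocRes.IsExpansionAt P.1 (φ P)) {u v : K} (hu : u ≠ 0)
    (hv : KaehlerDifferential.D k K v ≠ 0) :
    (Function.support fun P => LocRes.ordDiff (φ P) u v).Finite := by
  obtain ⟨-, -, C, hC, -⟩ := resW_spec hK hg φ hφ hu hv
  exact C.finite_support.subset fun P hP h => hP ((hC P).symm.trans h)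

lemma resW_mul (hK : IsFunctionField k K) (φ : ∀ P, K →ₐ[k] (F P)⸨X⸩)
    (hφ : ∀ P, LocRes.IsExpansionAt P.1 (φ P)) (u v x : K) :
    mulWLin hK (resW hK φ hφ u v) x = resW hK φ hφ (x * u) v := by
  refine LinearMap.ext fun a => finsum_congr fun P => ?_
  show LocRes.locRes (φ P) (x * (a : Place k K → K) P * u) v = _
  rw [mul_right_comm, mul_comm]

lemma mem_diffSpace_iff (hK : IsFunctionField k K) (hg : IsGeometric k K) (φ : ∀ P, K →ₐ[k] (F P)⸨X⸩)
    (hφ : ∀ P, LocRes.IsExpansionAt P.1 (φ P)) {v : K} (hv : KaehlerDifferential.D k K v ≠ 0)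
    (C : Divisor k K) (hC : ∀ P, C P = LocRes.ordDiff (φ P) 1 v) (D : Divisor k K) (y : K) :
    (∀ P, LocRes.vDiff (φ P) y v ≤ exp (-(D P))) ↔ y ∈ L (C - D) := by
  refine forall_congr' fun P => ?_
  have e : LocRes.vDiff (φ P) y v = P.1 y * exp (-(C P)) := by
    rw [hC, ← vDiff_eq_exp ((vDiff_ne_zero_iff hK hg (hφ P) 1 v).2 ⟨one_ne_zero, hv⟩), vDiff_eq,
      vDiff_eq, val_map (hφ P), map_one, map_one, one_mul]
  rw [e, Finsupp.sub_apply, ← le_div_iff₀ exp_pos, ← exp_sub,
    show -(D P) - -(C P) = C P - D P by ring]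

theorem finrank_diffSpace (hK : IsFunctionField k K) (hg : IsGeometric k K) (φ : ∀ P, K →ₐ[k] (F P)⸨X⸩)
    (hφ : ∀ P, LocRes.IsExpansionAt P.1 (φ P)) {v : K} (hv : KaehlerDifferential.D k K v ≠ 0)
    (D : Divisor k K) :
    Module.finrank k (Submodule.span k {y : K | ∀ P, LocRes.vDiff (φ P) y v ≤ exp (-(D P))}) =
      Module.finrank k (WD D) := by
  obtain ⟨-, hω, C, hC, hdiv⟩ := resW_spec hK hg φ hφ one_ne_zero hv
  have e : {y : K | ∀ P, LocRes.vDiff (φ P) y v ≤ exp (-(D P))} = (L (C - D) : Set K) :=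
    Set.ext (mem_diffSpace_iff hK hg φ hφ hv C hC D)
  rw [e, Submodule.span_eq]
  have h1 := riemann_roch hK ⟨_, hω, hdiv⟩ D
  have h2 := (finrank_WD hK D).2
  simp only [ell, delta] at h1 h2
  omega

end Global

end Groth.Agent.Res
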