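/-
Separability of residue fields of places with expansions.
-/
import Groth.Agent.L26.Res.Global
import Groth.Agent.L26.Res.Residue
import Groth.Agent.L26.Res.Sep
import Groth.Agent.L26.FF.IntClosure
import Mathlib.RingTheory.Unramified.Field
import Mathlib.RingTheory.Kaehler.Basic

open WithZero
open scoped LaurentSeries TensorProduct

namespace Groth.Agent.Res

open FunFld Groth.Agent.FF

section Ext

universe u v
variable {k : Type u} {K K' : Type v} [Field k] [Field K] [Field K'] [Algebra k K] [Algebra K K'] [Algebra k K']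
  [IsScalarTower k K K'] [Algebra.IsSeparable K K']

/-- The differentials of a separable extension are multiples of each other. -/
lemma exists_smul_D_ext (hK : IsFunctionField k K) (hg : IsGeometric k K) [Algebra.EssFiniteType K K']
    (v w : K') (hv : KaehlerDifferential.D k K' v ≠ 0) :
    ∃ c : K', c • KaehlerDifferential.D k K' v = KaehlerDifferential.D k K' w := by
  obtain ⟨s, hs, _⟩ := exists_separating hK hg
  have hDs := D_ne_zero hK hs
  have hall : ∀ ω : Ω[K'⁄k], ∃ b : K', b • KaehlerDifferential.D k K' (algebraMap K K' s) = ω := by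
    intro ω
    have : Algebra.FormallyUnramified K K' := Algebra.FormallyUnramified.of_isSeparable K K'
    have : Subsingleton (Ω[K'⁄K]) := Algebra.FormallyUnramified.subsingleton_kaehlerDifferential
    obtain ⟨τ, rfl⟩ := (KaehlerDifferential.exact_mapBaseChange_map k K K' ω).1 (Subsingleton.elim _ _)
    induction τ using TensorProduct.induction_on with
    | zero => exact ⟨0, by simp⟩
    | tmul b ω₀ =>
      obtain ⟨a, rfl⟩ := exists_smul_eq_of_finrank_eq_one (finrank_omega hK hg) hDs ω₀
      refine ⟨b * algebraMap K K' a, ?_⟩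
      rw [KaehlerDifferential.mapBaseChange_tmul, map_smul, KaehlerDifferential.map_D, mul_smul, algebraMap_smul]
    | add x y hx hy =>
      obtain ⟨a, ha⟩ := hx
      obtain ⟨b, hb⟩ := hy
      exact ⟨a + b, by rw [add_smul, ha, hb, map_add]⟩
  obtain ⟨a, ha⟩ := hall (KaehlerDifferential.D k K' v)
  obtain ⟨b, hb⟩ := hall (KaehlerDifferential.D k K' w)
  have ha0 : a ≠ 0 := fun h => hv (by rw [← ha, h, zero_smul])
  exact ⟨b / a, by rw [← ha, ← hb, smul_smul, div_mul_cancel₀ _ ha0]⟩

end Ext

variable {k K F : Type*} [Field k] [Field K] [Algebra k K] [Field F] [Algebra k F]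
variable {P : Place k K} {φ : K →ₐ[k] F⸨X⸩}

lemma isSeparable_coeff' (hsm : ∀ v w : K, KaehlerDifferential.D k K v ≠ 0 →
    ∃ c : K, c • KaehlerDifferential.D k K v = KaehlerDifferential.D k K w) [FiniteDimensional k F]
    (hφ : LocRes.IsExpansionAt P.1 φ) : Algebra.IsSeparable k F := by
  suffices hder : ∀ d : Derivation k F F, d = 0 by
    have hsub : Subsingleton (Ω[F⁄k]) := by
      rw [← not_nontrivial_iff_subsingleton]
      intro hnt
      obtain ⟨ω, hω⟩ := exists_ne (0 : Ω[F⁄k])
      obtain ⟨f, hf⟩ : ∃ f : Ω[F⁄k] →ₗ[F] F, f ω ≠ 0 := by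
        by_contra hc
        push Not at hc
        exact hω ((Module.forall_dual_apply_eq_zero_iff F ω).1 hc)
      have h0 := hder (f.compDer (KaehlerDifferential.D k F))
      have : f = 0 := LinearMap.ext_on (KaehlerDifferential.span_range_derivation k F) (by
        rintro _ ⟨a, rfl⟩
        exact congrArg (fun d : Derivation k F F => d a) h0)
      exact hf (by rw [this]; rfl)
    have : Algebra.FormallyUnramified k F := ⟨hsub⟩
    exact (Algebra.FormallyUnramified.iff_isSeparable k F).1 inferInstance
  intro d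
  let _i := φ.toRingHom.toAlgebra
  have _t : IsScalarTower k K F⸨X⸩ := LocRes.isScalarTower_exp φ
  have hsmul : ∀ (c : k) (x : F⸨X⸩) (i : ℤ), (c • x).coeff i = c • x.coeff i :=
    fun c x i => HahnSeries.coeff_smul
  let δ : Derivation k K F⸨X⸩ :=
  { toFun := fun a => (φ a).map (d : F →ₗ[k] F).toAddMonoidHom
    map_add' := fun a b => by
      refine HahnSeries.ext (funext fun i => ?_)
      simp
    map_smul' := fun c a => by
      refine HahnSeries.ext (funext fun i => ?_)
      rw [Algebra.smul_def, map_mul, LocRes.map_algebraMap, HahnSeries.C_mul_eq_smul]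
      simp only [HahnSeries.map_coeff, RingHom.id_apply, hsmul, HahnSeries.coeff_smul, smul_eq_mul,
        ← Algebra.smul_def]
      exact d.map_smul c _
    map_one_eq_zero' := by
      show (φ 1).map (d : F →ₗ[k] F).toAddMonoidHom = 0
      refine HahnSeries.ext (funext fun i => ?_)
      simp only [map_one, HahnSeries.map_coeff, HahnSeries.coeff_one, HahnSeries.coeff_zero]
      split_ifs <;> simp
    leibniz' := fun a b => by
      show (φ (a * b)).map (d : F →ₗ[k] F).toAddMonoidHom = φ a * _ + φ b * _
      rw [map_mul]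
      exact coeffwise_leibniz d _ _ }
  obtain ⟨t, -, ht⟩ := exists_val_eq P (-1)
  have hDt : KaehlerDifferential.D k K t ≠ 0 :=
    fun h0 => by
      have h1 := vDiff_uniformizer hφ ht
      rw [vDiff_eq, D_map_eq_zero φ h0, map_zero, mul_zero] at h1
      exact zero_ne_one h1
  obtain ⟨q, hq⟩ : ∃ q : F⸨X⸩, δ t = q * LocRes.D F (φ t) := by
    have h0 : LocRes.D F (φ t) ≠ 0 := fun h0 => by
      have := vDiff_uniformizer hφ ht
      rw [vDiff_eq, h0, map_zero, mul_zero] at this
      exact zero_ne_one this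
    exact ⟨δ t / LocRes.D F (φ t), (div_mul_cancel₀ _ h0).symm⟩
  have hall : ∀ w, δ w = q * LocRes.D F (φ w) := fun w => by
    obtain ⟨c, hc⟩ := hsm t w hDt
    have h1 := congrArg δ.liftKaehlerDifferential hc
    rw [map_smul, Derivation.liftKaehlerDifferential_comp_D, Derivation.liftKaehlerDifferential_comp_D] at h1
    rw [← h1, ← D_map_smul φ hc, hq]
    show φ c * _ = _
    ring
  ext a
  obtain ⟨N, hN⟩ := exists_lau (k := k) q
  obtain ⟨z, hz⟩ := exists_near_series hφ (HahnSeries.C a) ((N + 2 : ℕ) : ℤ)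
  have h1 : LocRes.D F (φ z) ∈ lau k F ((N + 1 : ℕ) : ℤ) := fun i hi => by
    have h2 : (φ z).coeff (i + 1) = (HahnSeries.C a).coeff (i + 1) :=
      sub_eq_zero.1 (hz (i + 1) (by omega))
    rw [LocRes.D_coeff, h2]
    rcases eq_or_ne (i + 1) 0 with h | h
    · rw [h, zero_smul]
    · rw [HahnSeries.C_apply, HahnSeries.coeff_single_of_ne h, smul_zero]
  have h3 : (δ z).coeff 0 = 0 := by
    rw [hall]
    exact mul_mem_lau hN h1 0 (by omega)
  have h4 : (φ z).coeff 0 = a := (sub_eq_zero.1 (hz 0 (by omega))).trans (by simp)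
  simpa [δ, h4] using h3

/-- The residue field is the coefficient field. -/
lemma exists_residue_algEquiv (hK : IsFF k K) (hφ : LocRes.IsExpansionAt P.1 φ) :
    FiniteDimensional k F ∧ Nonempty (IsLocalRing.ResidueField P.O ≃ₐ[k] F) := by
  classical
  have hlau : ∀ {z : K}, P.1 z ≤ 1 → φ z ∈ lau k F 0 := fun {z} h => by
    rw [mem_lau_iff, hφ.1, neg_zero, exp_zero]; exact h
  have hsplit : ∀ {v : F⸨X⸩}, v ∈ lau k F 0 → v - HahnSeries.C (v.coeff 0) ∈ lau k F 1 := by
    intro v hv i hi
    rcases eq_or_ne i 0 with rfl | h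
    · simp
    · rw [HahnSeries.coeff_sub, HahnSeries.C_apply, HahnSeries.coeff_single_of_ne h, sub_zero]
      exact hv i (by omega)
  have hmul : ∀ a b : P.O, (φ ((a : K) * b)).coeff 0 = (φ (a : K)).coeff 0 * (φ (b : K)).coeff 0 := fun a b => by
    rw [map_mul]
    set u := φ (a : K) with hu
    set v := φ (b : K) with hv
    have h1 : u * v = HahnSeries.C (u.coeff 0 * v.coeff 0) +
        ((u - HahnSeries.C (u.coeff 0)) * v + HahnSeries.C (u.coeff 0) * (v - HahnSeries.C (v.coeff 0))) := by
      rw [map_mul]; ring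
    have h2 : (u - HahnSeries.C (u.coeff 0)) * v ∈ lau k F 1 := by
      have := mul_mem_lau (hsplit (hlau a.2)) (hlau b.2)
      rwa [add_zero] at this
    have h3 : HahnSeries.C (u.coeff 0) * (v - HahnSeries.C (v.coeff 0)) ∈ lau k F 1 := fun i hi => by
      rw [HahnSeries.C_mul_eq_smul, HahnSeries.coeff_smul, hsplit (hlau b.2) i hi, smul_zero]
    rw [h1, HahnSeries.coeff_add, HahnSeries.coeff_add, h2 0 (by omega), h3 0 (by omega)]
    simp
  let g : P.O →ₐ[k] F :=
    { toFun := fun z => (φ (z : K)).coeff 0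
      map_one' := by simp
      map_mul' := fun a b => hmul a b
      map_zero' := by simp
      map_add' := fun a b => by simp
      commutes' := fun c => by
        show (φ (algebraMap k K c)).coeff 0 = _
        rw [LocRes.map_algebraMap]
        simp }
  have hsurj : Function.Surjective g := fun a => by
    obtain ⟨f, hf, hfa⟩ := hφ.2.1 a
    exact ⟨⟨f, hf⟩, hfa⟩
  have hker : ∀ z : P.O, g z = 0 ↔ z ∈ IsLocalRing.maximalIdeal P.O := fun z => by
    rw [← IsLocalRing.residue_eq_zero_iff, show IsLocalRing.residue P.O z = resMap P z from rfl, residue_eq_zero]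
    constructor
    · intro h
      have h1 : φ (z : K) ∈ lau k F 1 := by
        have := hsplit (hlau z.2)
        rwa [show (φ (z : K)).coeff 0 = 0 from h, map_zero, sub_zero] at this
      rw [mem_lau_iff, hφ.1] at h1
      exact h1.trans_lt (exp_lt_one'.2 (by norm_num))
    · intro h
      have h1 : φ (z : K) ∈ lau k F 1 := by
        rw [mem_lau_iff, hφ.1]; exact lt_one_le_exp h
      exact h1 0 (by omega)
  let f₀ : IsLocalRing.ResidueField P.O →ₐ[k] F :=
    { Ideal.Quotient.lift (IsLocalRing.maximalIdeal P.O) g.toRingHom fun z hz => (hker z).2 hz with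
      commutes' := fun c => g.commutes c }
  have hbij : Function.Bijective f₀ := ⟨RingHom.injective f₀.toRingHom, fun a => by
    obtain ⟨z, rfl⟩ := hsurj a
    exact ⟨IsLocalRing.residue P.O z, rfl⟩⟩
  have : FiniteDimensional k (IsLocalRing.ResidueField P.O) := finite_residueField hK P
  exact ⟨@Module.Finite.equiv k _ _ _ _ _ _ _ this (AlgEquiv.ofBijective f₀ hbij).toLinearEquiv, ⟨AlgEquiv.ofBijective f₀ hbij⟩⟩

/-- Residue fields at places with expansions are separable. -/
lemma isSeparable_residue (hK : IsFF k K) (hsm : ∀ v w : K, KaehlerDifferential.D k K v ≠ 0 →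
    ∃ c : K, c • KaehlerDifferential.D k K v = KaehlerDifferential.D k K w)
    (hφ : LocRes.IsExpansionAt P.1 φ) : Algebra.IsSeparable k (IsLocalRing.ResidueField P.O) := by
  obtain ⟨hfin, ⟨e⟩⟩ := exists_residue_algEquiv hK hφ
  have := isSeparable_coeff' hsm hφ
  exact AlgEquiv.Algebra.isSeparable e.symm

end Groth.Agent.Res
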