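/-
The trace formula for residues in a finite extension.
-/
import Groth.Agent.L26.Res.Global
import Groth.Agent.L26.FF.IntClosure
import Groth.Agent.L26.FF.Approx
import Mathlib.RingTheory.Trace.Basic

open WithZero

namespace Groth.Agent.Res

open Module (End)
open FunFld Groth.Agent.FF

section Split

variable {k V : Type*} [Field k] [AddCommGroup V] [Module k V]
variable {ι : Type*} [Fintype ι] [DecidableEq ι] {O : ι → Submodule k V} {p : ∀ q, V →ₗ[k] O q}

variable (p) in
/-- The complementary projection. -/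
def cpi (q : ι) : End k V := LinearMap.id - (O q).subtype ∘ₗ p q

lemma cpi_apply (q : ι) (v : V) : cpi p q v = v - (p q v : V) := rfl

lemma almostStable_iInf {m : End k V} (h : ∀ q, AlmostStable (O q) m) : AlmostStable (⨅ q, O q) m := by
  let j : (V ⧸ ⨅ q, O q) →ₗ[k] ∀ q, V ⧸ O q :=
    Submodule.liftQ _ (LinearMap.pi fun q => (O q).mkQ) fun x hx => by
      rw [LinearMap.mem_ker]
      funext q
      exact (Submodule.Quotient.mk_eq_zero _).2 (Submodule.mem_iInf O |>.1 hx q)
  have hj : Function.Injective j := by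
    rw [injective_iff_map_eq_zero]
    intro x hx
    induction x using Submodule.Quotient.induction_on with | _ v => ?_
    exact (Submodule.Quotient.mk_eq_zero _).2
      (Submodule.mem_iInf O |>.2 fun q => (Submodule.Quotient.mk_eq_zero _).1 (congrFun hx q))
  refine IsFR.of_comp_injective j hj ?_
  have e : j ∘ₗ ((⨅ q, O q).mkQ ∘ₗ m ∘ₗ (⨅ q, O q).subtype) = ∑ q, LinearMap.single k (fun q => V ⧸ O q) q ∘ₗ
      (((O q).mkQ ∘ₗ m ∘ₗ (O q).subtype) ∘ₗ Submodule.inclusion (iInf_le O q)) := by
    refine LinearMap.ext fun a => funext fun q => ?_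
    rw [LinearMap.sum_apply, Finset.sum_apply]
    simp only [LinearMap.comp_apply, LinearMap.coe_single, Finset.sum_pi_single, Finset.mem_univ, if_true]
    rfl
  rw [e]
  exact IsFR.sum _ fun q _ => ((h q).comp_right _).comp_left _

/-- The commutator trace on an intersection is the sum of the commutator traces. -/
theorem trFR_brk_toep_iInf (hp : ∀ q, ∀ a : O q, p q a = a)
    (hπ : ∀ q r, r ≠ q → ∀ v, cpi p q v ∈ O r) {f g : End k V} (hfg : f ∘ₗ g = g ∘ₗ f)
    (hf : ∀ q, AlmostStable (O q) f) (hg : ∀ q, AlmostStable (O q) g)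
    {P0 : V →ₗ[k] (⨅ q, O q : Submodule k V)} (hP0 : ∀ a : (⨅ q, O q : Submodule k V), P0 a = a) :
    trFR (brk (toep (⨅ q, O q) P0 f) (toep (⨅ q, O q) P0 g)) =
      ∑ q, trFR (brk (toep (O q) (p q) f) (toep (O q) (p q) g)) := by
  set A : Submodule k V := ⨅ q, O q
  have hA : ∀ q, A ≤ O q := fun q => iInf_le O q
  have hπ0 : ∀ q, ∀ a ∈ O q, cpi p q a = 0 := fun q a ha => by
    rw [cpi_apply, show (p q a : V) = a from congrArg Subtype.val (hp q ⟨a, ha⟩), sub_self]
  have hpπ : ∀ q v, p q (cpi p q v) = 0 := fun q v => by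
    rw [cpi_apply, map_sub, hp, sub_self]
  have hidem : ∀ q v, cpi p q (cpi p q v) = cpi p q v := fun q v => by
    rw [cpi_apply q (cpi p q v), hpπ, ZeroMemClass.coe_zero, sub_zero]
  -- the adapted projection
  let P1 : V →ₗ[k] A := ((LinearMap.id : End k V) - ∑ q, cpi p q).codRestrict A fun v => by
    rw [Submodule.mem_iInf]
    intro r
    rw [LinearMap.sub_apply, LinearMap.sum_apply, LinearMap.id_apply, ← Finset.add_sum_erase _ _ (Finset.mem_univ r),
      ← sub_sub, show v - cpi p r v = (p r v : V) by rw [cpi_apply, sub_sub_cancel]]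
    exact sub_mem (p r v).2 (sum_mem fun q hq => hπ q r (Finset.ne_of_mem_erase hq).symm v)
  have hP1v : ∀ v, (P1 v : V) = v - ∑ q, cpi p q v := fun v => by
    show ((LinearMap.id : End k V) - ∑ q, cpi p q) v = _
    simp
  have hP1 : ∀ a : A, P1 a = a := fun a => Subtype.ext (by
    rw [hP1v, Finset.sum_eq_zero (fun q _ => hπ0 q _ (hA q a.2)), sub_zero])
  rw [← trFR_brk_toep_congr hP0 hP1 hfg (almostStable_iInf hf) (almostStable_iInf hg)]
  have hfg' : ∀ v, f (g v) = g (f v) := fun v => LinearMap.congr_fun hfg v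
  let u : ι → End k V := fun q => g ∘ₗ cpi p q ∘ₗ f - f ∘ₗ cpi p q ∘ₗ g
  let us : ∀ q, O q →ₗ[k] V := fun q => u q ∘ₗ (O q).subtype
  have hπm : ∀ {m : End k V} (q : ι), AlmostStable (O q) m → IsFR (cpi p q ∘ₗ m ∘ₗ (O q).subtype) :=
    fun {m} q hm => isFR_defect (hp q) hm
  have husFR : ∀ q, IsFR (us q) := fun q => by
    show IsFR ((g ∘ₗ cpi p q ∘ₗ f - f ∘ₗ cpi p q ∘ₗ g) ∘ₗ (O q).subtype)
    rw [LinearMap.sub_comp]
    exact ((hπm q (hf q)).comp_left g).sub ((hπm q (hg q)).comp_left f)
  have eDq : ∀ q, brk (toep (O q) (p q) f) (toep (O q) (p q) g) = p q ∘ₗ us q := fun q =>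
    LinearMap.ext fun a => by
      simp only [brk, LinearMap.sub_apply, LinearMap.comp_apply, toep_apply, us, u, Submodule.subtype_apply,
        cpi_apply, map_sub, hfg']
      abel
  let inc : ∀ q, A →ₗ[k] O q := fun q => Submodule.inclusion (hA q)
  have eD : brk (toep A P1 f) (toep A P1 g) = ∑ q, (P1 ∘ₗ us q) ∘ₗ inc q :=
    LinearMap.ext fun a => by
      have e1 : ∀ h h' : End k V, P1 (h (P1 (h' a) : V)) = P1 (h (h' a)) - ∑ q, P1 (h (cpi p q (h' a))) :=
        fun h h' => by rw [hP1v, map_sub, map_sub, map_sum, map_sum]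
      simp only [brk, LinearMap.sub_apply, LinearMap.comp_apply, toep_apply, LinearMap.sum_apply, us, u, inc,
        Submodule.subtype_apply, Submodule.coe_inclusion, map_sub, Finset.sum_sub_distrib, e1, hfg']
      abel
  rw [eD, trFR_sum _ fun q _ => ((husFR q).comp_left P1).comp_right _]
  -- one term
  let X : ι → ι → k := fun q r => trFR ((cpi p r ∘ₗ g ∘ₗ cpi p q) ∘ₗ (cpi p q ∘ₗ f ∘ₗ cpi p r))
  have hterm : ∀ q, trFR ((P1 ∘ₗ us q) ∘ₗ inc q) =
      trFR (brk (toep (O q) (p q) f) (toep (O q) (p q) g)) - ∑ r, (X q r - X r q) := fun q => by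
    rw [← trFR_comm (inc q) ((husFR q).comp_left P1)]
    have e2 : inc q ∘ₗ (P1 ∘ₗ us q) = p q ∘ₗ us q - ∑ r, p q ∘ₗ (cpi p r ∘ₗ us q) := by
      refine LinearMap.ext fun a => ?_
      simp only [LinearMap.sub_apply, LinearMap.comp_apply, LinearMap.sum_apply]
      rw [← hp q (inc q (P1 (us q a))), show ((inc q (P1 (us q a)) : O q) : V) = (P1 (us q a) : V) from rfl,
        hP1v, map_sub, map_sum]
    rw [e2, trFR_sub ((husFR q).comp_left _) (IsFR.sum _ fun r _ => ((husFR q).comp_left _).comp_left _),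
      trFR_sum _ (fun r _ => ((husFR q).comp_left _).comp_left _), eDq]
    refine congrArg (_ - ·) (Finset.sum_congr rfl fun r _ => ?_)
    rcases eq_or_ne r q with rfl | hne
    · rw [sub_self, show p r ∘ₗ (cpi p r ∘ₗ us r) = 0 from LinearMap.ext fun a => hpπ r _, trFR_zero]
    -- off the diagonal
    let cr : V →ₗ[k] O q := (cpi p r).codRestrict (O q) fun v => hπ r q (Ne.symm hne) v
    have hcr : (O q).subtype ∘ₗ cr = cpi p r := LinearMap.ext fun _ => rfl
    have ea : ∀ m m' : End k V, AlmostStable (O q) m →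
        IsFR (cpi p r ∘ₗ m' ∘ₗ (cpi p q ∘ₗ m ∘ₗ cpi p r)) := fun m m' hm => by
      rw [← hcr]
      exact (((hπm q hm).comp_right cr).comp_left m').comp_left _
    have e3 : p q ∘ₗ (cpi p r ∘ₗ us q) = cr ∘ₗ us q :=
      LinearMap.ext fun a => hp q ⟨_, hπ r q (Ne.symm hne) _⟩
    have e5 : cr = cr ∘ₗ cpi p r := LinearMap.ext fun v => Subtype.ext (hidem r v).symm
    rw [e3, e5, LinearMap.comp_assoc, trFR_comm cr ((husFR q).comp_left _)]
    have e4 : (cpi p r ∘ₗ us q) ∘ₗ cr = cpi p r ∘ₗ g ∘ₗ (cpi p q ∘ₗ f ∘ₗ cpi p r) -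
        cpi p r ∘ₗ f ∘ₗ (cpi p q ∘ₗ g ∘ₗ cpi p r) := by
      refine LinearMap.ext fun a => ?_
      show cpi p r (g (cpi p q (f (cpi p r a))) - f (cpi p q (g (cpi p r a)))) = _
      rw [map_sub]
      rfl
    rw [e4, trFR_sub (ea f g (hf q)) (ea g f (hg q))]
    have e6 : ∀ m m' : End k V, cpi p r ∘ₗ m' ∘ₗ (cpi p q ∘ₗ m ∘ₗ cpi p r) =
        (cpi p r ∘ₗ m' ∘ₗ cpi p q) ∘ₗ (cpi p q ∘ₗ m ∘ₗ cpi p r) := fun m m' => LinearMap.ext fun a => by
      simp only [LinearMap.comp_apply, hidem]
    rw [e6, e6 g f]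
    congr 1
    refine (trFR_comm _ ?_).symm
    let cq : V →ₗ[k] O r := (cpi p q).codRestrict (O r) fun v => hπ q r hne v
    rw [show cpi p r ∘ₗ f ∘ₗ cpi p q = (cpi p r ∘ₗ f ∘ₗ (O r).subtype) ∘ₗ cq from rfl]
    exact (hπm r (hf r)).comp_right cq
  rw [Finset.sum_congr rfl fun q _ => hterm q, Finset.sum_sub_distrib, sub_eq_self]
  simp only [Finset.sum_sub_distrib]
  rw [Finset.sum_comm, sub_self]

end Split

section Formula

variable {k K K' : Type*} [Field k] [Field K] [Field K'] [Algebra k K] [Algebra K K'] [Algebra k K']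
  [IsScalarTower k K K'] [FiniteDimensional K K']

lemma toep_mulL_add (P : Place k K) (f f' : K) :
    toep (oSub P) (projO P) (mulL k (f + f')) =
      toep (oSub P) (projO P) (mulL k f) + toep (oSub P) (projO P) (mulL k f') := by
  refine LinearMap.ext fun a => ?_
  show projO P ((f + f') * (a : K)) = projO P (f * a) + projO P (f' * a)
  rw [add_mul, map_add]

lemma tateRes_add_left (hK : IsFF k K) (P : Place k K) (f f' g : K) :
    tateRes P (f + f') g = tateRes P f g + tateRes P f' g := by
  rw [tateRes, toep_mulL_add, brk_add_left,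
    trFR_add (isFR_brk_toep (projO_apply P) (mulL_comm f g) (almostStable_oSub hK P f) (almostStable_oSub hK P g))
      (isFR_brk_toep (projO_apply P) (mulL_comm f' g) (almostStable_oSub hK P f') (almostStable_oSub hK P g))]
  rfl

lemma tateRes_sum_left (hK : IsFF k K) (P : Place k K) {ι : Type*} (s : Finset ι) (f : ι → K) (g : K) :
    tateRes P (∑ i ∈ s, f i) g = ∑ i ∈ s, tateRes P (f i) g := by
  classical
  induction s using Finset.induction_on with
  | empty =>
    rw [Finset.sum_empty, Finset.sum_empty, tateRes,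
      show toep (oSub P) (projO P) (mulL k (0 : K)) = 0 from LinearMap.ext fun a => by
        show projO P (0 * (a : K)) = 0
        rw [zero_mul, map_zero]]
    rw [show brk (0 : End k (oSub P)) (toep (oSub P) (projO P) (mulL k g)) = 0 from LinearMap.ext fun a => by simp [brk], trFR_zero]
  | insert a s ha ih => rw [Finset.sum_insert ha, Finset.sum_insert ha, tateRes_add_left hK, ih]

variable [Algebra.IsSeparable K K']

/-- `Res_P (tr y dx) = ∑ Res_Q (y dx)`. -/
theorem tateRes_trace (hK : IsFunctionField k K) (P : Place k K) (Qs : Finset (Place k K'))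
    (hQs : ∀ Q, Q ∈ Qs ↔ IsOver Q P) (y : K') (x : K) :
    tateRes P (Algebra.trace K K' y) x = ∑ Q ∈ Qs, tateRes Q y (algebraMap K K' x) := by
  classical
  have hF' : IsFF k K' := isFF_ext hK.1
  let O : {Q // Q ∈ Qs} → Submodule k K' := fun Q => oSub Q.1
  set A : Submodule k K' := ⨅ Q, O Q
  -- complements inside the elements integral elsewhere
  have hX : ∀ Q : {Q // Q ∈ Qs}, ∃ p : K' →ₗ[k] O Q, (∀ a : O Q, p a = a) ∧
      ∀ r, r ≠ Q → ∀ v, v - (p v : K') ∈ O r := fun Q => by
    let R : Submodule k K' := ⨅ (r : {Q // Q ∈ Qs}) (_ : r ≠ Q), O r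
    obtain ⟨X', hX'⟩ := ((A ⊓ R).comap R.subtype).exists_isCompl
    let X := X'.map R.subtype
    have hXR : X ≤ R := Submodule.map_subtype_le _ _
    have hXr : ∀ r, r ≠ Q → ∀ x ∈ X, x ∈ O r := fun r hr x hx => by
      have := hXR hx
      simp only [R, Submodule.mem_iInf] at this
      exact this r hr
    have hcompl : IsCompl (O Q) X := by
      constructor
      · rw [Submodule.disjoint_def]
        intro z hz hzX
        have hzA : z ∈ A := by
          rw [Submodule.mem_iInf]
          intro r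
          rcases eq_or_ne r Q with rfl | hr
          · exact hz
          · exact hXr r hr z hzX
        obtain ⟨z', hz', rfl⟩ := hzX
        have : z' = 0 := Submodule.disjoint_def.1 hX'.disjoint z' ⟨hzA, z'.2⟩ hz'
        rw [this]; rfl
      · rw [codisjoint_iff, eq_top_iff]
        intro v _
        obtain ⟨w, hw⟩ := approx Qs (fun r => if r = Q.1 then v else 0) 0
        simp only [neg_zero, exp_zero] at hw
        have hwR : w ∈ R := by
          simp only [R, Submodule.mem_iInf]
          intro r hr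
          have := hw r.1 r.2
          rwa [if_neg (fun h => hr (Subtype.ext h)), sub_zero] at this
        have hvw : v - w ∈ O Q := by
          have := hw Q.1 Q.2
          rw [if_pos rfl] at this
          show Q.1.1 (v - w) ≤ 1
          rwa [Valuation.map_sub_swap]
        obtain ⟨a, ha, b, hb, hab⟩ := Submodule.mem_sup.1 (hX'.sup_eq_top ▸ (Submodule.mem_top : (⟨w, hwR⟩ : R) ∈ ⊤))
        refine Submodule.mem_sup.2 ⟨v - w + a, add_mem hvw (iInf_le O Q ha.1), b, ⟨b, hb, rfl⟩, ?_⟩
        have : (a : K') + b = w := congrArg Subtype.val hab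
        rw [← this]; abel
    refine ⟨(O Q).projectionOnto X hcompl, fun a => Submodule.projectionOnto_apply_left hcompl a, fun r hr v => ?_⟩
    obtain ⟨a, ha, b, hb, rfl⟩ := Submodule.mem_sup.1 (hcompl.sup_eq_top ▸ (Submodule.mem_top : v ∈ ⊤))
    rw [map_add, show (O Q).projectionOnto X hcompl b = 0 from Submodule.projectionOnto_apply_of_mem_right hcompl hb,
      add_zero, show ((O Q).projectionOnto X hcompl a : K') = a from
        congrArg Subtype.val (Submodule.projectionOnto_apply_left hcompl ⟨a, ha⟩), add_sub_cancel_left]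
    exact hXr r hr b hb
  choose p hp hπ using hX
  -- coordinates with respect to an integral basis
  obtain ⟨z, hz, hli, hspan⟩ := exists_integral_basis (K' := K') hK P
  have : Nonempty (Fin (Module.finrank K K')) := ⟨⟨0, Module.finrank_pos⟩⟩
  let B := basisOfLinearIndependentOfCardEqFinrank hli (Fintype.card_fin _)
  have hB : ∀ i, B i = z i := fun i => congrFun (coe_basisOfLinearIndependentOfCardEqFinrank hli (Fintype.card_fin _)) i
  let E : K' ≃ₗ[k] (Fin (Module.finrank K K') → K) := B.equivFun.restrictScalars k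
  have hmemA : ∀ v, v ∈ A ↔ ∀ i, P.1 (E v i) ≤ 1 := fun v => by
    simp only [A, Submodule.mem_iInf]
    constructor
    · intro h i
      obtain ⟨c, hc, hv⟩ := hspan v fun Q hQ => h ⟨Q, (hQs Q).2 hQ⟩
      have : E v = c := by
        show B.equivFun v = c
        rw [← B.equivFun.apply_symm_apply c, B.equivFun_symm_apply, hv]
        simp only [hB]
      rw [this]
      exact hc i
    · intro h Q
      show Q.1.1 v ≤ 1
      rw [← B.sum_equivFun v]
      refine Q.1.1.map_sum_le fun i _ => ?_
      obtain ⟨e, he⟩ := (hQs Q.1).1 Q.2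
      rw [Algebra.smul_def, map_mul, hB]
      exact mul_le_one' ((he.le_one_iff _).2 (h i)) (hz i Q.1 ⟨e, he⟩)
  let P0 : K' →ₗ[k] A := (E.symm.toLinearMap ∘ₗ
      (LinearMap.pi fun i => (oSub P).subtype ∘ₗ projO P ∘ₗ LinearMap.proj i) ∘ₗ E.toLinearMap).codRestrict A
    fun v => (hmemA _).2 fun i => by
      show P.1 (E (E.symm _) i) ≤ 1
      rw [LinearEquiv.apply_symm_apply]
      exact (projO P (E v i)).2
  have hP0v : ∀ v i, E (P0 v : K') i = (projO P (E v i) : K) := fun v i => by
    show E (E.symm _) i = _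
    rw [LinearEquiv.apply_symm_apply]
    rfl
  have hP0 : ∀ a : A, P0 a = a := fun a => Subtype.ext (E.injective (funext fun i => by
    rw [hP0v]
    exact congrArg Subtype.val (projO_apply P ⟨E (a : K') i, (hmemA _).1 a.2 i⟩)))
  have hsplit := trFR_brk_toep_iInf (O := O) (p := p) hp hπ (mulL_comm y (algebraMap K K' x))
    (fun Q => almostStable_oSub hF' Q.1 y) (fun Q => almostStable_oSub hF' Q.1 (algebraMap K K' x)) hP0
  -- identify the two sides
  have hQside : ∀ Q : {Q // Q ∈ Qs}, trFR (brk (toep (O Q) (p Q) (mulL k y)) (toep (O Q) (p Q) (mulL k (algebraMap K K' x)))) =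
      tateRes Q.1 y (algebraMap K K' x) := fun Q =>
    trFR_brk_toep_congr (projO_apply Q.1) (hp Q) (mulL_comm _ _) (almostStable_oSub hF' Q.1 _)
      (almostStable_oSub hF' Q.1 _)
  rw [Finset.sum_congr rfl (fun Q _ => hQside Q), ← Finset.sum_coe_sort Qs (fun Q => tateRes Q y (algebraMap K K' x))] at *
  refine Eq.trans ?_ hsplit
  let M := Algebra.leftMulMatrix B y
  have hMy : ∀ v i, E (y * v) i = ∑ j, M i j * E v j := fun v i => by
    show B.equivFun (y * v) i = _
    rw [B.equivFun_apply, ← Algebra.leftMulMatrix_mulVec_repr B y v]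
    rfl
  have hMx : ∀ v i, E (algebraMap K K' x * v) i = x * E v i := fun v i => by
    show B.equivFun (algebraMap K K' x * v) i = _
    rw [← Algebra.smul_def, map_smul]
    rfl
  let inA : Fin (Module.finrank K K') → oSub P →ₗ[k] A := fun i =>
    (E.symm.toLinearMap ∘ₗ LinearMap.single k (fun _ => K) i ∘ₗ (oSub P).subtype).codRestrict A fun a =>
      (hmemA _).2 fun j => by
        show P.1 (E (E.symm (Pi.single i (a : K))) j) ≤ 1
        rw [LinearEquiv.apply_symm_apply]
        rcases eq_or_ne j i with rfl | h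
        · rw [Pi.single_eq_same]; exact a.2
        · simp [Pi.single_eq_of_ne h]
  let pr : Fin (Module.finrank K K') → A →ₗ[k] oSub P := fun i =>
    (LinearMap.proj i ∘ₗ E.toLinearMap ∘ₗ A.subtype).codRestrict _ fun a => (hmemA _).1 a.2 i
  let D : K → End k (oSub P) := fun c => brk (toep (oSub P) (projO P) (mulL k c)) (toep (oSub P) (projO P) (mulL k x))
  have hDFR : ∀ c, IsFR (D c) := fun c =>
    isFR_brk_toep (projO_apply P) (mulL_comm c x) (almostStable_oSub hK.1 P c) (almostStable_oSub hK.1 P x)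
  have eD : brk (toep A P0 (mulL k y)) (toep A P0 (mulL k (algebraMap K K' x))) =
      ∑ ij : Fin (Module.finrank K K') × Fin (Module.finrank K K'), (inA ij.1 ∘ₗ D (M ij.1 ij.2)) ∘ₗ pr ij.2 := by
    refine LinearMap.ext fun a => Subtype.ext (E.injective (funext fun l => ?_))
    rw [LinearMap.sum_apply, AddSubmonoidClass.coe_finsetSum, map_sum, Finset.sum_apply, Fintype.sum_prod_type,
      Finset.sum_eq_single l (fun i _ hi => Finset.sum_eq_zero fun j _ => by
        show E (E.symm (Pi.single i _)) l = 0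
        rw [LinearEquiv.apply_symm_apply, Pi.single_eq_of_ne (Ne.symm hi)]) (fun h => absurd (Finset.mem_univ l) h)]
    show E ((P0 (y * (P0 (algebraMap K K' x * (a : K')) : K')) : K') - (P0 (algebraMap K K' x * (P0 (y * (a : K')) : K')) : K')) l =
      ∑ j, E (E.symm (Pi.single l ((D (M l j) (pr j a) : oSub P) : K))) l
    simp only [LinearEquiv.apply_symm_apply, Pi.single_eq_same, map_sub, Pi.sub_apply, hP0v, hMy, hMx, map_sum,
      AddSubmonoidClass.coe_finsetSum, Finset.mul_sum]
    rw [← Finset.sum_sub_distrib]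
    exact Finset.sum_congr rfl fun j _ => rfl
  rw [eD, trFR_sum _ fun ij _ => ((hDFR _).comp_left _).comp_right _, Algebra.trace_eq_matrix_trace B,
    Matrix.trace, tateRes_sum_left hK.1]
  have hterm : ∀ i j, trFR ((inA i ∘ₗ D (M i j)) ∘ₗ pr j) = if j = i then tateRes P (M i j) x else 0 := fun i j => by
    rw [← trFR_comm (pr j) ((hDFR _).comp_left _), ← LinearMap.comp_assoc]
    split_ifs with h
    · subst h
      show _ = trFR (D _)
      congr 1
      refine LinearMap.ext fun a => Subtype.ext ?_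
      show E (E.symm (Pi.single j ((D (M j j) a : oSub P) : K))) j = _
      rw [LinearEquiv.apply_symm_apply, Pi.single_eq_same]
    · convert trFR_zero (k := k) (V := oSub P) using 2
      refine LinearMap.ext fun a => Subtype.ext ?_
      show E (E.symm (Pi.single i ((D (M i j) a : oSub P) : K))) j = _
      rw [LinearEquiv.apply_symm_apply, Pi.single_eq_of_ne h]
      rfl
  rw [Fintype.sum_prod_type]
  simp only [hterm, Finset.sum_ite_eq', Finset.mem_univ, if_true, Matrix.diag_apply]
  rfl

end Formula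

end Groth.Agent.Res
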